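import Groth.Agent.NormCurve.Nagata
import Groth.Agent.CAlgOdd.NagataFT.Poly
import Groth.Agent.N12Aux.Nagata
import Groth.Agent.FlatLoc6.SerreNormal
import Groth.Agent.ParaFX.Ufd
import Groth.Prelude.Def_Pi1

/-!
# Finite surjective normal cover of a Nagata affine scheme
-/

set_option autoImplicit false
set_option linter.style.haveILetI false
set_option backward.isDefEq.respectTransparency false
set_option backward.isDefEq.respectTransparency.types false

universe u

open CategoryTheory CategoryTheory.Limits AlgebraicGeometry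

noncomputable section

namespace Groth.Agent.RelPure

open Groth.Agent

theorem isN2_of_field (K : Type u) [Field K] : CAlg.IsN2 K := by
  intro L _ _ _ _ hfin
  haveI : Module.Finite K (FractionRing K) := Module.Finite.of_surjective (Algebra.linearMap K (FractionRing K))
    (IsField.localization_map_bijective zero_notMem_nonZeroDivisors (Field.toIsField K)).2
  haveI : FiniteDimensional K L := Module.Finite.trans (FractionRing K) L
  exact Module.Finite.of_injective (integralClosure K L).val.toLinearMap Subtype.val_injective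

/-- A principal ideal domain of characteristic zero is Nagata. -/
theorem isNagata_of_pid (R : Type u) [CommRing R] [IsDomain R] [IsPrincipalIdealRing R] [CharZero R] :
    CAlg.IsNagata R := by
  refine ⟨inferInstance, fun p hp => ?_⟩
  by_cases h : p = ⊥
  · subst h
    refine N12Aux.isN2_of_ringEquiv (RingEquiv.quotientBot R).symm fun L _ _ _ _ hfin => ?_
    haveI : CharZero (FractionRing R) := charZero_of_injective_algebraMap (IsFractionRing.injective R (FractionRing R))
    exact IsIntegralClosure.finite R (FractionRing R) L (integralClosure R L)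
  · haveI : p.IsMaximal := IsPrime.to_maximal_ideal h
    letI := Ideal.Quotient.field p
    exact isN2_of_field (R ⧸ p)

/-- Rings of finite type over the integers are Nagata. -/
theorem isNagata_of_finiteType_int (R : Type u) [CommRing R] [Algebra.FiniteType ℤ R] : CAlg.IsNagata R := by
  haveI : IsDomain (ULift.{u} ℤ) := (ULift.ringEquiv.{0, u} (R := ℤ)).toMulEquiv.isDomain
  haveI : IsPrincipalIdealRing (ULift.{u} ℤ) :=
    IsPrincipalIdealRing.of_surjective (ULift.ringEquiv.{0, u} (R := ℤ)).symm.toRingHom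
      (ULift.ringEquiv.{0, u} (R := ℤ)).symm.surjective
  haveI : CharZero (ULift.{u} ℤ) := ⟨fun a b h => by
    have := congrArg (ULift.ringEquiv.{0, u} (R := ℤ)) h
    simpa using this⟩
  letI : Algebra (ULift.{u} ℤ) R := ((Int.castRingHom R).comp (ULift.ringEquiv.{0, u} (R := ℤ)).toRingHom).toAlgebra
  haveI : Algebra.FiniteType (ULift.{u} ℤ) R := by
    obtain ⟨n, f, hf⟩ := Algebra.FiniteType.iff_quotient_mvPolynomial''.1 ‹Algebra.FiniteType ℤ R›
    refine Algebra.FiniteType.of_surjective (MvPolynomial.aeval (R := ULift.{u} ℤ) fun i => f (MvPolynomial.X i)) ?_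
    intro r
    obtain ⟨P, rfl⟩ := hf r
    refine ⟨MvPolynomial.map (ULift.ringEquiv.{0, u} (R := ℤ)).symm.toRingHom P, ?_⟩
    rw [MvPolynomial.aeval_def, MvPolynomial.eval₂_map]
    have : f = MvPolynomial.aeval fun i => f (MvPolynomial.X i) := MvPolynomial.aeval_unique f
    conv_rhs => rw [this]
    exact congrArg (fun φ : ℤ →+* R => MvPolynomial.eval₂ φ (fun i => f (MvPolynomial.X i)) P)
      (RingHom.ext_int _ _)
  exact CAlgOdd.NagataFT.isNagata_of_finiteType (isNagata_of_pid (ULift.{u} ℤ)) R

/-- A Nagata affine scheme has a finite surjective cover by a normal scheme, birational on each component. -/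
theorem exists_normal_cover (R : CommRingCat.{u}) (hR : CAlg.IsNagata R) :
    ∃ (S' : Scheme.{u}) (g : S' ⟶ Spec R), IsFinite g ∧ Surjective g ∧ IsNoetherian S' ∧
      (∀ s : S', (2 : ℕ∞) ≤ LocCoh.depth (S'.presheaf.stalk s) (S'.presheaf.stalk s) ∨
        IsRegularLocalRing (S'.presheaf.stalk s)) ∧
      ∀ s : S', (∀ s', s' ⤳ s → s' = s) → IsField (S'.presheaf.stalk s) ∧ ∀ r, r ⤳ g s → r = g s := by
  classical
  haveI := hR.1
  let ι := minimalPrimes R
  haveI : Finite ι := (minimalPrimes.finite_of_isNoetherianRing R).to_subtype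
  haveI : ∀ i : ι, (i.1).IsPrime := fun i => i.2.1.1
  let D : ι → Type u := fun i => integralClosure (R ⧸ i.1) (FractionRing (R ⧸ i.1))
  haveI hfin : ∀ i, Module.Finite R (D i) := fun i => by
    haveI : Module.Finite (R ⧸ i.1) (D i) := hR.2 i.1 (FractionRing (R ⧸ i.1)) inferInstance
    exact Module.Finite.trans (R ⧸ i.1) _
  haveI hnorm : ∀ i, IsIntegrallyClosed (D i) := fun i =>
    integralClosure.isIntegrallyClosedOfFiniteExtension (FractionRing (R ⧸ i.1))
  haveI hnoe : ∀ i, IsNoetherianRing (D i) := fun i => IsNoetherianRing.of_finite R (D i)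
  let P := Π i, D i
  haveI : IsNoetherianRing P := IsNoetherianRing.of_finite R P
  let g : Spec (CommRingCat.of P) ⟶ Spec R := Spec.map (CommRingCat.ofHom (algebraMap R P))
  have hgfin : IsFinite g := (IsFinite.SpecMap_iff _).2 (RingHom.finite_algebraMap.2 inferInstance)
  -- every point lies on a factor
  have hpt : ∀ s : Spec (CommRingCat.of P), ∃ (i : ι) (q : PrimeSpectrum (D i)),
      Spec.map (CommRingCat.ofHom (Pi.evalRingHom D i)) q = s := fun s => by
    obtain ⟨i, q, h⟩ := PrimeSpectrum.exists_comap_evalRingHom_eq (R := D) s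
    exact ⟨i, q, h⟩
  have hcomap : ∀ (i : ι) (q : PrimeSpectrum (D i)),
      g (Spec.map (CommRingCat.ofHom (Pi.evalRingHom D i)) q) = PrimeSpectrum.comap (algebraMap R (D i)) q :=
    fun i q => rfl
  have hbot : ∀ i : ι, PrimeSpectrum.comap (algebraMap R (D i)) ⟨⊥, Ideal.isPrime_bot⟩ = ⟨i.1, inferInstance⟩ := by
    intro i
    refine PrimeSpectrum.ext ?_
    ext r
    show algebraMap R (D i) r ∈ (⊥ : Ideal (D i)) ↔ r ∈ i.1
    rw [Ideal.mem_bot, ← Subtype.val_inj, ← Ideal.Quotient.eq_zero_iff_mem]
    show algebraMap (R ⧸ i.1) (FractionRing (R ⧸ i.1)) (Ideal.Quotient.mk i.1 r) = 0 ↔ _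
    exact FaithfulSMul.algebraMap_eq_zero_iff _ _
  have hsurj : Surjective g := ⟨fun r => by
    obtain ⟨p, hp, hpr⟩ := Ideal.exists_minimalPrimes_le (I := ⊥) (J := (r : PrimeSpectrum R).asIdeal) bot_le
    let i : ι := ⟨p, hp⟩
    let φ : R ⧸ p →+* D i := algebraMap (R ⧸ p) (D i)
    have hφ : Function.Injective φ := fun a b h =>
      IsFractionRing.injective (R ⧸ p) (FractionRing (R ⧸ p)) (congrArg Subtype.val h)
    haveI : ((r : PrimeSpectrum R).asIdeal.map (Ideal.Quotient.mk p)).IsPrime :=
      Ideal.map_isPrime_of_surjective Ideal.Quotient.mk_surjective (by rwa [Ideal.mk_ker])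
    obtain ⟨Q, -, hQp, hQ⟩ := Ideal.exists_ideal_over_prime_of_isIntegral
      ((r : PrimeSpectrum R).asIdeal.map (Ideal.Quotient.mk p)) (⊥ : Ideal (D i))
      (fun z hz => by
        have : φ z = 0 := hz
        rw [map_eq_zero_iff φ hφ] at this
        exact this ▸ Submodule.zero_mem _)
    refine ⟨Spec.map (CommRingCat.ofHom (Pi.evalRingHom D i)) ⟨Q, hQp⟩, ?_⟩
    rw [hcomap]
    refine PrimeSpectrum.ext ?_
    show Q.comap (algebraMap R (D i)) = (r : PrimeSpectrum R).asIdeal
    rw [IsScalarTower.algebraMap_eq R (R ⧸ p) (D i), ← Ideal.comap_comap, hQ, Ideal.Quotient.algebraMap_eq,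
      Ideal.comap_map_of_surjective _ Ideal.Quotient.mk_surjective]
    exact sup_eq_left.2 (by rwa [← RingHom.ker_eq_comap_bot, Ideal.mk_ker])⟩
  refine ⟨Spec (CommRingCat.of P), g, hgfin, hsurj, inferInstance, fun s => ?_, fun s hs => ?_⟩
  · obtain ⟨i, q, rfl⟩ := hpt s
    let j := Spec.map (CommRingCat.ofHom (Pi.evalRingHom D i))
    haveI : IsOpenImmersion j := inferInstance
    let e : (Spec (CommRingCat.of P)).presheaf.stalk (j q) ≃+* Localization.AtPrime q.asIdeal :=
      (asIso (j.stalkMap q)).commRingCatIsoToRingEquiv.trans (Spec.stalkIso (CommRingCat.of (D i)) q).commRingCatIsoToRingEquiv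
    haveI : IsDomain (Localization.AtPrime q.asIdeal) := IsLocalization.isDomain_of_le_nonZeroDivisors _
      q.asIdeal.primeCompl_le_nonZeroDivisors
    haveI : IsIntegrallyClosed (Localization.AtPrime q.asIdeal) :=
      isIntegrallyClosed_of_isLocalization _ q.asIdeal.primeCompl q.asIdeal.primeCompl_le_nonZeroDivisors
    haveI : IsDomain ((Spec (CommRingCat.of P)).presheaf.stalk (j q)) := e.toMulEquiv.isDomain
    haveI : IsIntegrallyClosed ((Spec (CommRingCat.of P)).presheaf.stalk (j q)) := IsIntegrallyClosed.of_equiv (R := Localization.AtPrime q.asIdeal) e.symm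
    haveI : IsNoetherianRing ((Spec (CommRingCat.of P)).presheaf.stalk (j q)) := isNoetherianRing_of_ringEquiv _ e.symm
    by_cases h : (2 : WithBot ℕ∞) ≤ ringKrullDim ((Spec (CommRingCat.of P)).presheaf.stalk (j q))
    · exact Or.inl (ParaFX.two_le_depth_of_normal _ h)
    · refine Or.inr (FlatLoc6.regular_of_normal _ ?_)
      revert h
      cases ringKrullDim ((Spec (CommRingCat.of P)).presheaf.stalk (j q)) with
      | bot => exact fun _ => bot_le
      | coe a =>
        intro h2
        have h3 : a < 2 := lt_of_not_ge fun h => h2 (WithBot.coe_le_coe.2 h)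
        exact WithBot.coe_le_coe.2 ((ENat.lt_add_one_iff (by simp)).1 (by rwa [one_add_one_eq_two]))
  · obtain ⟨i, q, rfl⟩ := hpt s
    let j := Spec.map (CommRingCat.ofHom (Pi.evalRingHom D i))
    let q₀ : PrimeSpectrum (D i) := ⟨⊥, Ideal.isPrime_bot⟩
    obtain rfl : q₀ = q := j.isOpenEmbedding.injective
      (hs _ (((PrimeSpectrum.le_iff_specializes q₀ q).1 (PrimeSpectrum.asIdeal_le_asIdeal _ _ |>.1 bot_le)).map
        j.continuous))
    refine ⟨?_, fun r hr => ?_⟩
    · let e : (Spec (CommRingCat.of P)).presheaf.stalk (j q₀) ≃+* Localization.AtPrime (⊥ : Ideal (D i)) :=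
        (asIso (j.stalkMap q₀)).commRingCatIsoToRingEquiv.trans
          (Spec.stalkIso (CommRingCat.of (D i)) q₀).commRingCatIsoToRingEquiv
      haveI : IsFractionRing (D i) (Localization.AtPrime (⊥ : Ideal (D i))) := by
        have h : (⊥ : Ideal (D i)).primeCompl = nonZeroDivisors (D i) := by
          ext x
          simp [Ideal.primeCompl, mem_nonZeroDivisors_iff_ne_zero]
        show IsLocalization (nonZeroDivisors (D i)) _
        rw [← h]
        infer_instance
      letI := IsFractionRing.toField (D i) (K := Localization.AtPrime (⊥ : Ideal (D i)))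
      exact e.toMulEquiv.isField (Field.toIsField _)
    · rw [hcomap, hbot] at hr ⊢
      refine PrimeSpectrum.ext (le_antisymm ((PrimeSpectrum.le_iff_specializes r _).2 hr) (i.2.2 ⟨r.isPrime, bot_le⟩ ?_))
      exact (PrimeSpectrum.le_iff_specializes r _).2 hr

end Groth.Agent.RelPure

end
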