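import Groth.Agent.RelPure.Depth2
import Groth.Agent.GrpSchLib.SmoothRegular
import Groth.Agent.S10834
import Groth.Agent.S0247
import Groth.Agent.Triage.CMMor

/-!
# The local ring of a smooth morphism at a point of codimension two in its fibre
-/

set_option autoImplicit false
set_option linter.style.haveILetI false
set_option backward.isDefEq.respectTransparency false
set_option backward.isDefEq.respectTransparency.types false

universe u

open CategoryTheory CategoryTheory.Limits AlgebraicGeometry IsLocalRing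

noncomputable section

namespace Groth.Agent.RelPure

open Groth.Agent Groth.Agent.Pi1Rig

/-- Depth two lifts along an ideal with free graded pieces. -/
theorem two_le_depth {A : Type u} [CommRing A] [IsLocalRing A] [IsNoetherianRing A] {J : Ideal A}
    [IsLocalRing (A ⧸ J)] (hgr : GrFree J) (hd : (2 : ℕ∞) ≤ LocCoh.depth (A ⧸ J) (A ⧸ J)) :
    (2 : ℕ∞) ≤ LocCoh.depth A A := by
  haveI hnt : Nontrivial (A ⧸ J) := inferInstance
  have hne : maximalIdeal A • (⊤ : Submodule A (A ⧸ J)) ≠ ⊤ := fun h =>
    Submodule.top_ne_ideal_smul_of_le_jacobson_annihilator (IsLocalRing.maximalIdeal_le_jacobson _) h.symm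
  have hd' : (2 : ℕ∞) ≤ LocCoh.depth A (A ⧸ J) := (ParaRel.depth_quot J).symm ▸ hd
  obtain ⟨rs, hreg, hmem, hlen⟩ := Alg6.exists_length_ge_of_le_idealDepth hne (n := 2) hd'
  have hA := ParaRel.isWeaklyRegular_of_pow (Ideal.Quotient.nontrivial_iff.1 hnt) rs hmem fun n =>
    ParaRel.isWeaklyRegular_pow hgr rs hreg (n + 1)
  show (2 : ℕ∞) ≤ LocCoh.idealDepth _ _
  unfold LocCoh.idealDepth
  split_ifs
  · exact le_top
  · exact le_iSup₂_of_le rs ⟨hA, hmem⟩ (by exact_mod_cast hlen)

/-- Purity and depth two for a flat local algebra with regular closed fibre of dimension two or more. -/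
theorem pure_of_regular_fibre {R B F : Type u} [CommRing R] [IsNoetherianRing R] [IsLocalRing R]
    [CommRing B] [IsNoetherianRing B] [IsLocalRing B] [Algebra R B] [Module.Flat R B]
    [IsLocalHom (algebraMap R B)] [CommRing F] [IsRegularLocalRing F]
    (e : (B ⧸ (maximalIdeal R).map (algebraMap R B)) ≃+* F) (hF : (2 : WithBot ℕ∞) ≤ ringKrullDim F) :
    FEt.PurityHolds B ∧ (2 : ℕ∞) ≤ LocCoh.depth B B := by
  haveI : IsLocalRing (B ⧸ (maximalIdeal R).map (algebraMap R B)) := e.symm.isLocalRing
  haveI : IsRegularLocalRing (B ⧸ (maximalIdeal R).map (algebraMap R B)) := IsRegularLocalRing.of_ringEquiv e.symm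
  have hq : (2 : WithBot ℕ∞) ≤ ringKrullDim (B ⧸ (maximalIdeal R).map (algebraMap R B)) :=
    hF.trans_eq (ringKrullDim_eq_of_ringEquiv e).symm
  have hd : (2 : ℕ∞) ≤ LocCoh.depth (B ⧸ (maximalIdeal R).map (algebraMap R B))
      (B ⧸ (maximalIdeal R).map (algebraMap R B)) :=
    WithBot.coe_le_coe.1 (hq.trans_eq (S10834.depth_of_regular _).symm)
  refine ⟨purityHolds_of_flat hd (S0247.result _ hq), two_le_depth (grFree_flat (maximalIdeal R) fun n => ?_) hd⟩
  letI := Ideal.Quotient.field (maximalIdeal R)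
  exact Module.Free.of_divisionRing _ _

/-- Purity and depth two at a point of codimension two in its fibre. -/
theorem pure_stalk {X S : Scheme.{u}} [IsLocallyNoetherian S] (f : X ⟶ S) [Smooth f] (x : X)
    (hx : (2 : WithBot ℕ∞) ≤ ringKrullDim (CInt.fiberStalk f x)) :
    FEt.PurityHolds (X.presheaf.stalk x) ∧
      (2 : ℕ∞) ≤ LocCoh.depth (X.presheaf.stalk x) (X.presheaf.stalk x) := by
  haveI : IsLocallyNoetherian X := LocallyOfFiniteType.isLocallyNoetherian f
  haveI hsm : Smooth (f.fiberToSpecResidueField (f x)) := MorphismProperty.pullback_snd _ _ ‹_›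
  haveI : IsRegularLocalRing (CInt.fiberStalk f x) :=
    @GrpSchLib.isRegularLocalRing_stalk_of_smooth (S.residueField (f x)) _ (f.fiber (f x))
      (f.fiberToSpecResidueField (f x)) hsm (f.asFiber x)
  obtain ⟨e⟩ := Triage.CMMor.exists_equiv_fibre_stalk f x
  letI : Algebra (S.presheaf.stalk (f x)) (X.presheaf.stalk x) := (f.stalkMap x).hom.toAlgebra
  haveI : Module.Flat (S.presheaf.stalk (f x)) (X.presheaf.stalk x) := Flat.stalkMap f x
  haveI : IsLocalHom (algebraMap (S.presheaf.stalk (f x)) (X.presheaf.stalk x)) :=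
    inferInstanceAs (IsLocalHom (f.stalkMap x).hom)
  exact pure_of_regular_fibre (R := S.presheaf.stalk (f x)) e hx

end Groth.Agent.RelPure

end
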