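import Groth.Agent.RelPure.Dense
import Groth.Agent.RelPure.Stalk
import Groth.Agent.FibDim.FlatBC
import Groth.Agent.FibDim.RelDim
import Groth.Agent.DimFormula.Fibre
import Groth.Agent.S0250

/-!
# Opens whose complement has codimension two in every fibre
-/

set_option autoImplicit false
set_option linter.style.haveILetI false
set_option backward.isDefEq.respectTransparency false
set_option backward.isDefEq.respectTransparency.types false

universe u

open CategoryTheory CategoryTheory.Limits AlgebraicGeometry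

noncomputable section

namespace Groth.Agent.RelPure

open Groth.Agent FibDim

variable {X S : Scheme.{u}} (f : X ⟶ S)

/-- The complement of `U` has codimension at least two in every fibre. -/
def Codim2 (U : Set X) : Prop :=
  ∀ x, x ∉ U → ∃ w, w ⤳ x ∧ f w = f x ∧ rd f x + 2 ≤ rd f w

/-- The points near which the complement of `U` has codimension at least two in the fibre. -/
def good (U : Set X) : Set X :=
  {x | ∀ z, z ∉ U → z ⤳ x → f z = f x → ∃ w, w ⤳ x ∧ f w = f x ∧ rd f z + 2 ≤ rd f w}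

theorem Codim2.fibMax_mem [LocallyOfFiniteType f] {U : Set X} (h : Codim2 f U) {η : X}
    (hη : IsFibMax f η) : η ∈ U := by
  by_contra hn
  obtain ⟨w, hw, hfw, hle⟩ := h η hn
  rw [hη w hw hfw] at hle
  omega

theorem Codim2.opens_ι [LocallyOfFiniteType f] {U : Set X} (h : Codim2 f U) (W : X.Opens) :
    Codim2 (W.ι ≫ f) (W.ι ⁻¹' U) := fun x hx => by
  obtain ⟨w, hw, hfw, hle⟩ := h (W.ι x) hx
  refine ⟨⟨w, hw.mem_open W.isOpen x.2⟩, ?_, hfw, ?_⟩
  · exact W.ι.isOpenEmbedding.isInducing.specializes_iff.1 hw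
  · rw [rd_opens, rd_opens]; exact hle

theorem codim2_of_good [LocallyOfFiniteType f] {U : Set X} (W : X.Opens) (hW : ∀ x ∈ W, x ∈ good f U) :
    Codim2 (W.ι ≫ f) (W.ι ⁻¹' U) := fun x hx => by
  obtain ⟨w, hw, hfw, hle⟩ := hW (W.ι x) x.2 (W.ι x) hx specializes_rfl rfl
  refine ⟨⟨w, hw.mem_open W.isOpen x.2⟩, ?_, hfw, ?_⟩
  · exact W.ι.isOpenEmbedding.isInducing.specializes_iff.1 hw
  · rw [rd_opens, rd_opens]; exact hle

theorem codim2_of_stalk [LocallyOfFiniteType f] {U : Set X}
    (h : ∀ x, x ∉ U → (2 : WithBot ℕ∞) ≤ ringKrullDim ((f.fiber (f x)).presheaf.stalk (f.asFiber x))) :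
    Codim2 f U := fun x hx => by
  obtain ⟨w, hw, hfw, he, -⟩ := exists_fibreDimAt_eq f x
  refine ⟨w, hw, hfw, ?_⟩
  have h2 : 2 ≤ DimFormula.fb f x := by
    have := h x hx
    rw [DimFormula.ringKrullDim_stalk_fibre] at this
    exact_mod_cast this
  have h3 := (DimFormula.fibreDimAt_eq_add f x).symm.trans he
  have h4 : rd f x + DimFormula.fb f x = rd f w := by exact_mod_cast h3
  omega

theorem Codim2.two_le_stalk [LocallyOfFiniteType f] {U : Set X} (h : Codim2 f U) {x : X} (hx : x ∉ U) :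
    (2 : WithBot ℕ∞) ≤ ringKrullDim (CInt.fiberStalk f x) := by
  obtain ⟨w, hw, hfw, hle⟩ := h x hx
  have h1 := rd_le_fibreDimAt f hw hfw
  rw [DimFormula.fibreDimAt_eq_add] at h1
  have h2 : rd f w ≤ rd f x + DimFormula.fb f x := by exact_mod_cast h1
  rw [show ringKrullDim (CInt.fiberStalk f x) = _ from DimFormula.ringKrullDim_stalk_fibre f x]
  exact_mod_cast (show 2 ≤ DimFormula.fb f x by omega)

/-- The good locus is open. -/
theorem isOpen_good [Smooth f] {U : Set X} (hU : IsOpen U) : IsOpen (good f U) := by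
  refine isOpen_iff_forall_mem_open.2 fun x hx => ?_
  obtain ⟨η, hηx, hfη, hηm, hall, hd⟩ := exists_eta f x
  by_cases hxU : x ∈ U
  · exact ⟨U, fun z hz z' hz'U h' _ => absurd (h'.mem_open hU hz) hz'U, hU, hxU⟩
  have hbd : ∀ ζ, ζ ∉ U → ζ ⤳ x → f ζ = f x → rd f ζ + 2 ≤ rd f η := fun ζ h1 h2 h3 => by
    obtain ⟨w, hw, hfw, hle⟩ := hx ζ h1 h2 h3
    exact hle.trans (rd_le_of_specializes f (hall w hw hfw) (hfη.trans hfw.symm))
  obtain ⟨n, hn⟩ : ∃ n, rd f η = n + 2 := ⟨rd f η - 2, by have := hbd x hxU specializes_rfl rfl; omega⟩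
  haveI : IsLocallyNoetherian (f.fiber (f x)) :=
    LocallyOfFiniteType.isLocallyNoetherian (f.fiberToSpecResidueField (f x))
  obtain ⟨W, hxW, hW⟩ := exists_nhd_generizing (hU.isClosed_compl.preimage (f.fiberι (f x)).continuous)
    (f.asFiber x)
  obtain ⟨W', hW', hWW'⟩ := (f.fiberι (f x)).isEmbedding.isInducing.isOpen_iff.mp W.isOpen
  have hxW' : x ∈ W' := by
    have : f.asFiber x ∈ (f.fiberι (f x)) ⁻¹' W' := hWW'.symm ▸ hxW
    simpa [Scheme.Hom.fiberι_asFiber] using this
  have hdim : topologicalKrullDim ↥(W' ∩ Uᶜ ∩ f ⁻¹' {f x}) ≤ n := by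
    refine (dim_inter_le_iff f _ hW' hU.isClosed_compl _).2 fun w h1 h2 h3 => ?_
    obtain ⟨w', rfl⟩ : w ∈ Set.range (f.fiberι (f x)) := by rw [Scheme.Hom.range_fiberι]; exact h3
    obtain ⟨ζ, hζU, hζx, hζw⟩ := hW w' (hWW'.le h1) h2
    have hfζ : f (f.fiberι (f x) ζ) = f x := by
      have : f.fiberι (f x) ζ ∈ Set.range (f.fiberι (f x)) := ⟨ζ, rfl⟩
      rw [Scheme.Hom.range_fiberι] at this
      exact this
    have hζ' : f.fiberι (f x) ζ ⤳ x := by
      have := hζx.map (f.fiberι (f x)).continuous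
      rwa [Scheme.Hom.fiberι_asFiber] at this
    have h4 := rd_le_of_specializes f (hζw.map (f.fiberι (f x)).continuous) (hfζ.trans h3.symm)
    have h5 := hbd _ hζU hζ' hfζ
    omega
  obtain ⟨O, hO, hxO, -, hOb⟩ := exists_open_dim_le f hW' hU.isClosed_compl hxW' hxU n hdim
  obtain ⟨V, hxV, hV⟩ := exists_nhd_fibreDimAt f x
  refine ⟨O ∩ V, fun z hz z' hz'U h' he' => ?_, hO.inter V.isOpen, hxO, hxV⟩
  have h1 : rd f z' ≤ n :=
    (dim_inter_le_iff f _ hO hU.isClosed_compl _).1 (hOb (f z')) z' (h'.mem_open hO hz.1) hz'U rfl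
  obtain ⟨ζ, hζz, hfζ, -, -, hdz⟩ := exists_eta f z
  have h2 : rd f ζ = rd f η := by
    have := hdz.symm.trans ((hV z hz.2).trans hd)
    exact_mod_cast this
  exact ⟨ζ, hζz, hfζ, by omega⟩

/-- The image of a base change with complement of codimension two lies in the good locus. -/
theorem mem_good_of_baseChange {X' S' : Scheme.{u}} {p : X' ⟶ X} {q : X' ⟶ S'} {g : S' ⟶ S}
    [LocallyOfFiniteType f] [LocallyOfFiniteType q] (h : IsPullback p q f g) {U : Set X}
    (hU : Codim2 q (p ⁻¹' U)) (x' : X') : p x' ∈ good f U := by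
  intro z hzU hz hfz
  have hw : ∀ w, f (p w) = g (q w) := fun w => by
    show (p ≫ f) w = (q ≫ g) w
    rw [h.w]
  have h' : IsPullback (q.fiberι (q x') ≫ p) (q.fiberToSpecResidueField (q x')) f
      (S'.fromSpecResidueField (q x') ≫ g) :=
    (IsPullback.of_hasPullback q (S'.fromSpecResidueField (q x'))).paste_horiz h
  obtain ⟨a, ha, hpa⟩ := exists_generization_lift h'.flip (x' := q.asFiber x') (b := z)
    (by show z ⤳ p (q.fiberι (q x') (q.asFiber x')); rw [Scheme.Hom.fiberι_asFiber]; exact hz)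
    (by show f z = f (p (q.fiberι (q x') (q.asFiber x'))); rw [Scheme.Hom.fiberι_asFiber]; exact hfz)
  have hax : q.fiberι (q x') a ⤳ x' := by
    have := ha.map (q.fiberι (q x')).continuous
    rwa [Scheme.Hom.fiberι_asFiber] at this
  have hqa : q (q.fiberι (q x') a) = q x' := fiber_apply_fiberι q a
  obtain ⟨w, hwz, hwa, hqw, hmax⟩ :=
    exists_max_rd q (Z := p ⁻¹' {z}) (x := q.fiberι (q x') a) (show p _ = z from hpa)
  have hrd : rd q w = rd f (p w) := rd_baseChange_eq_of_minimal h w fun v hv hpv hqv => by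
    by_contra hne
    exact absurd (hmax v (hpv.trans hwz) (hv.trans hwa) (hqv.trans hqw))
      (not_le.2 (rd_lt q hv hne hqv))
  have hpw : p w = z := hwz
  obtain ⟨v, hv, hqv, hle⟩ := hU w (fun hm => hzU (hpw ▸ hm))
  have hvx : v ⤳ x' := hv.trans (hwa.trans hax)
  have hqvx : q v = q x' := hqv.trans (hqw.trans hqa)
  refine ⟨p v, hvx.map p.continuous, by rw [hw, hw, hqvx], ?_⟩
  rw [← hpw, ← hrd]
  exact hle.trans (rd_baseChange_le h v)

/-- Over a locally Noetherian base: restriction to an open with complement of codimension two in every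
fibre is an equivalence. -/
theorem isEquivalence_noetherian [Smooth f] [IsLocallyNoetherian S] [IsNoetherian X] (U : X.Opens)
    (hU : Codim2 f U) : (FEt.restrict U.ι).IsEquivalence := by
  obtain ⟨hfull, hfaith⟩ := restrict_ff f U.ι fun η hη => by
    rw [Scheme.Opens.range_ι]; exact hU.fibMax_mem f hη
  haveI := S0250.result U fun x hx => (pure_stalk f x (hU.two_le_stalk f hx)).1
  exact {}

end Groth.Agent.RelPure

end
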