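import Groth.Agent.RelPure.Dense
import Groth.Agent.RelPure.Good
import Groth.Agent.EtDescX.DDLimit
import Groth.Agent.EtDescX.Descend
import Groth.Agent.Pi1X.FEtBasic
import Groth.Agent.Pi1Ext.Spread

/-!
# An extension of a cover over a surjective base change descends
-/

set_option autoImplicit false
attribute [-instance] CategoryTheory.catToReflQuiver
set_option linter.style.haveILetI false
set_option backward.isDefEq.respectTransparency false
set_option backward.isDefEq.respectTransparency.types false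

universe u

open CategoryTheory CategoryTheory.Limits AlgebraicGeometry

noncomputable section

namespace Groth.Agent.RelPure

open Groth.Agent

theorem isFibMax_of_flat {E X S : Scheme.{u}} (e : E ⟶ X) [Flat e] (f : X ⟶ S) {η : E}
    (h : IsFibMax (e ≫ f) η) : IsFibMax f (e η) := fun z hz hfz => by
  obtain ⟨z', hz', rfl⟩ := Flat.generalizingMap e hz
  exact congrArg e (h z' hz' hfz)

theorem isFibMax_of_isPullback {X S X' S' : Scheme.{u}} {f : X ⟶ S} [LocallyOfFiniteType f] {p : X' ⟶ X}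
    {q : X' ⟶ S'} [LocallyOfFiniteType q] {g : S' ⟶ S} (h : IsPullback p q f g) {η : X'}
    (hη : IsFibMax q η) : IsFibMax f (p η) := by
  intro z hz hfz
  have h' : IsPullback (q.fiberι (q η) ≫ p) (q.fiberToSpecResidueField (q η)) f
      (S'.fromSpecResidueField (q η) ≫ g) :=
    (IsPullback.of_hasPullback q (S'.fromSpecResidueField (q η))).paste_horiz h
  obtain ⟨a, ha, hpa⟩ := FibDim.exists_generization_lift h'.flip (x' := q.asFiber η) (b := z)
    (by show z ⤳ p (q.fiberι (q η) (q.asFiber η)); rw [Scheme.Hom.fiberι_asFiber]; exact hz)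
    (by show f z = f (p (q.fiberι (q η) (q.asFiber η))); rw [Scheme.Hom.fiberι_asFiber]; exact hfz)
  have hax : q.fiberι (q η) a ⤳ η := by
    have := ha.map (q.fiberι (q η)).continuous
    rwa [Scheme.Hom.fiberι_asFiber] at this
  have := hη _ hax (FibDim.fiber_apply_fiberι q a)
  rw [← this]
  exact hpa.symm

variable {S : Scheme.{u}}

section Dense

variable {P : Scheme.{u}} (f : P ⟶ S) [Smooth f] (U : P.Opens) (hU : ∀ η, IsFibMax f η → η ∈ U)

include hU

/-- Morphisms into a separated unramified scheme agreeing on a fibrewise dense open agree. -/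
theorem eq_of_dense {E X : Scheme.{u}} (e : E ⟶ X) [IsSeparated e] [FormallyUnramified e]
    [LocallyOfFiniteType e] (a b : P ⟶ E) (h : a ≫ e = b ≫ e) (hab : U.ι ≫ a = U.ι ≫ b) : a = b := by
  obtain ⟨W, hW, huniv, hr⟩ := Pi1X.exists_isClopen_eqLocus e a b h
  refine huniv (Set.eq_univ_of_forall fun x => ?_)
  obtain ⟨η, hηx, -, hηm, -, -⟩ := exists_eta f x
  exact hηx.mem_closed hW.1 (hr U.ι hab ⟨⟨η, hU η hηm⟩, rfl⟩)

/-- Morphisms into a finite étale scheme extend from a fibrewise dense open. -/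
theorem exists_hom_extend {E X : Scheme.{u}} (e : E ⟶ X) [IsFinite e] [Etale e] (b : P ⟶ X)
    (a : (U : Scheme.{u}) ⟶ E) (ha : a ≫ e = U.ι ≫ b) : ∃ t : P ⟶ E, t ≫ e = b ∧ U.ι ≫ t = a := by
  obtain ⟨hfull, -⟩ := restrict_ff f U.ι fun η hη => by rw [Scheme.Opens.range_ι]; exact hU η hη
  haveI := hfull
  let One : FEt.Cat P := MorphismProperty.Over.mk ⊤ (𝟙 P) ⟨inferInstance, inferInstance⟩
  let Q : FEt.Cat P := MorphismProperty.Over.mk ⊤ (pullback.snd e b) ⟨inferInstance, inferInstance⟩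
  let m₀ : pullback (𝟙 P) U.ι ⟶ pullback (pullback.snd e b) U.ι :=
    pullback.lift (pullback.lift (pullback.snd _ _ ≫ a) (pullback.snd _ _ ≫ U.ι)
      (by rw [Category.assoc, Category.assoc, ha])) (pullback.snd _ _) (pullback.lift_snd _ _ _)
  obtain ⟨m, hm⟩ := (FEt.restrict U.ι).map_surjective (X := One) (Y := Q)
    (MorphismProperty.Over.homMk m₀ (pullback.lift_snd _ _ _))
  have hmw : m.left ≫ pullback.snd e b = 𝟙 P := MorphismProperty.Over.w m
  refine ⟨m.left ≫ pullback.fst e b, ?_, ?_⟩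
  · rw [Category.assoc, pullback.condition, reassoc_of% hmw]
    exact Category.id_comp b
  · let l : (U : Scheme.{u}) ⟶ pullback (𝟙 P) U.ι := pullback.lift U.ι (𝟙 _) (by simp)
    have h1 : ((FEt.restrict U.ι).map m).left ≫ pullback.fst (pullback.snd e b) U.ι =
        m₀ ≫ pullback.fst (pullback.snd e b) U.ι :=
      congrArg (fun k => k.left ≫ pullback.fst (pullback.snd e b) U.ι) hm
    have h2 : ((FEt.restrict U.ι).map m).left ≫ pullback.fst (pullback.snd e b) U.ι =
        pullback.fst (𝟙 P) U.ι ≫ m.left := by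
      simp only [FEt.restrict]
      erw [MorphismProperty.Over.pullback_map_left]
      exact pullback.lift_fst _ _ _
    have h3 := congrArg (fun k => l ≫ k ≫ pullback.fst e b) (h2.symm.trans h1)
    simp only [l, m₀, pullback.lift_fst, Category.assoc] at h3
    erw [pullback.lift_fst_assoc, pullback.lift_snd_assoc] at h3
    exact h3.trans (Category.id_comp a)

end Dense

section Descent

variable {X S' : Scheme.{u}} (f : X ⟶ S) [Smooth f] (U : X.Opens) (g : S' ⟶ S)

/-- The fibre product with the cover of the base is smooth over the fibre product of the bases. -/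
theorem exists_smooth_pair {Z B : Scheme.{u}} (z : Z ⟶ X) (b : B ⟶ S) (c : Z ⟶ B) [Smooth c]
    (w : z ≫ f = c ≫ b) (hZ : ∀ η, IsFibMax c η → z η ∈ U) :
    ∃ c' : pullback z (pullback.fst f g) ⟶ pullback b g, Smooth c' ∧
      c' ≫ pullback.fst b g = pullback.fst z (pullback.fst f g) ≫ c ∧
      ∀ η, IsFibMax c' η → z (pullback.fst z (pullback.fst f g) η) ∈ U := by
  let π := pullback.fst z (pullback.fst f g)
  have sq : IsPullback (pullback.snd z (pullback.fst f g) ≫ pullback.snd f g) π g (z ≫ f) :=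
    (IsPullback.of_hasPullback z (pullback.fst f g)).flip.paste_horiz (IsPullback.of_hasPullback f g).flip
  rw [w] at sq
  let c' : pullback z (pullback.fst f g) ⟶ pullback b g :=
    pullback.lift (π ≫ c) (pullback.snd z (pullback.fst f g) ≫ pullback.snd f g) (by rw [sq.w, Category.assoc])
  have hc : c' ≫ pullback.snd b g = pullback.snd z (pullback.fst f g) ≫ pullback.snd f g :=
    pullback.lift_snd _ _ _
  rw [← hc] at sq
  have sq' : IsPullback c' π (pullback.fst b g) c :=
    IsPullback.of_right sq (pullback.lift_fst _ _ _) (IsPullback.of_hasPullback b g).flip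
  haveI hsm : Smooth c' := MorphismProperty.of_isPullback (P := @Smooth) sq'.flip ‹Smooth c›
  exact ⟨c', hsm, pullback.lift_fst _ _ _, fun η hη => hZ _ (isFibMax_of_isPullback sq'.flip hη)⟩

/-- An extension over a surjective base change with effective descent of finite étale covers descends. -/
theorem exists_extend_descent (hU : ∀ η, IsFibMax f η → η ∈ U) (V : FEt.Cat (U : Scheme.{u}))
    (hsub : SGA1.UnivSubmersive (pullback.fst f g))
    (heff : ∀ D : Desc.SchDD (pullback.fst f g), IsFinite D.obj.hom → Etale D.obj.hom →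
      ∃ Y : Over X, IsFinite Y.hom ∧ Etale Y.hom ∧ Nonempty ((Desc.toDD (pullback.fst f g)).obj Y ≅ D))
    (Y' : FEt.Cat (pullback f g))
    (hY' : Nonempty ((FEt.restrict (pullback.fst f g ⁻¹ᵁ U).ι).obj Y' ≅
      (FEt.restrict (pullback.fst f g ∣_ U)).obj V)) :
    ∃ Y : FEt.Cat X, Nonempty ((FEt.restrict U.ι).obj Y ≅ V) := by
  obtain ⟨i⟩ := hY'
  let q := pullback.fst f g
  let W := q ⁻¹ᵁ U
  let E := Y'.left
  let e : E ⟶ pullback f g := Y'.hom
  haveI : IsFinite e := Y'.prop.1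
  haveI : Etale e := Y'.prop.2
  haveI : IsFinite V.hom := V.prop.1
  haveI : Etale V.hom := V.prop.2
  let P₁ := pullback e W.ι
  let v : P₁ ⟶ V.left := i.hom.left ≫ pullback.fst V.hom (q ∣_ U)
  haveI : IsIso i.hom.left := ⟨i.inv.left,
    congrArg (fun k => k.left) i.hom_inv_id, congrArg (fun k => k.left) i.inv_hom_id⟩
  have sqv : IsPullback v (pullback.snd e W.ι) V.hom (q ∣_ U) :=
    (IsPullback.of_hasPullback V.hom (q ∣_ U)).of_iso (asIso i.hom.left).symm (Iso.refl _) (Iso.refl _) (Iso.refl _)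
      (by simp [v])
      (by
        show pullback.snd V.hom (q ∣_ U) ≫ 𝟙 _ = (asIso i.hom.left).inv ≫ pullback.snd e W.ι
        rw [Category.comp_id, Iso.eq_inv_comp]
        exact MorphismProperty.Over.w i.hom)
      (by simp) (by simp)
  let R : ∀ {T : Scheme.{u}}, (T ⟶ E) → (T ⟶ E) → Prop := fun {T} a a' => ∃ k k' : T ⟶ P₁,
    k ≫ pullback.fst e W.ι = a ∧ k' ≫ pullback.fst e W.ι = a' ∧ k ≫ v = k' ≫ v
  have R_trans : ∀ {T : Scheme.{u}} {a b c : T ⟶ E}, R a b → R b c → R a c := by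
    rintro T a b c ⟨k, k', h1, h2, h3⟩ ⟨l, l', h4, h5, h6⟩
    obtain rfl : k' = l := by rw [← cancel_mono (pullback.fst e W.ι), h2, h4]
    exact ⟨k, l', h1, h5, h3.trans h6⟩
  have R_symm : ∀ {T : Scheme.{u}} {a b : T ⟶ E}, R a b → R b a := by
    rintro T a b ⟨k, k', h1, h2, h3⟩
    exact ⟨k', k, h2, h1, h3.symm⟩
  have R_eq : ∀ {T : Scheme.{u}} {a b : T ⟶ E}, R a b → a ≫ e = b ≫ e → a = b := by
    rintro T a b ⟨k, k', rfl, rfl, h3⟩ he
    congr 1
    refine sqv.hom_ext h3 ?_
    rw [← cancel_mono W.ι, Category.assoc, Category.assoc, ← pullback.condition]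
    simpa only [Category.assoc] using he
  let UE : E.Opens := (e ≫ q) ⁻¹ᵁ U
  have hUE : ∀ η, IsFibMax (e ≫ pullback.snd f g) η → (e ≫ q) η ∈ U := fun η hη =>
    hU _ (isFibMax_of_isPullback (IsPullback.of_hasPullback f g) (isFibMax_of_flat e _ hη))
  obtain ⟨c₂, hc₂, hc₂w, hUP⟩ := exists_smooth_pair f U g (e ≫ q) g (e ≫ pullback.snd f g)
    (by rw [Category.assoc, Category.assoc, pullback.condition]) hUE
  haveI := hc₂
  let P := pullback (e ≫ q) q
  let UP : P.Opens := (pullback.fst (e ≫ q) q ≫ e ≫ q) ⁻¹ᵁ U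
  have hP2 : pullback.fst (e ≫ q) q ≫ e ≫ q = pullback.snd (e ≫ q) q ≫ q := pullback.condition
  let w₁ : (UP : Scheme.{u}) ⟶ (W : Scheme.{u}) :=
    IsOpenImmersion.lift W.ι (UP.ι ≫ pullback.fst (e ≫ q) q ≫ e) (by
      rintro _ ⟨x, rfl⟩; rw [Scheme.Opens.range_ι]; exact x.2)
  let w₂ : (UP : Scheme.{u}) ⟶ (W : Scheme.{u}) :=
    IsOpenImmersion.lift W.ι (UP.ι ≫ pullback.snd (e ≫ q) q) (by
      rintro _ ⟨x, rfl⟩; rw [Scheme.Opens.range_ι]
      show (pullback.snd (e ≫ q) q ≫ q) (UP.ι x) ∈ U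
      rw [← hP2]
      exact x.2)
  let k₁ : (UP : Scheme.{u}) ⟶ P₁ := pullback.lift (UP.ι ≫ pullback.fst (e ≫ q) q) w₁
    (by rw [IsOpenImmersion.lift_fac, Category.assoc])
  let k₂ : (UP : Scheme.{u}) ⟶ P₁ := sqv.lift (k₁ ≫ v) w₂ (by
    rw [Category.assoc, sqv.w, ← cancel_mono U.ι]
    simp only [Category.assoc, morphismRestrict_ι, k₁, pullback.lift_snd_assoc, w₁, w₂,
      IsOpenImmersion.lift_fac_assoc]
    erw [IsOpenImmersion.lift_fac_assoc, IsOpenImmersion.lift_fac_assoc]
    exact congrArg (UP.ι ≫ ·) hP2)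
  obtain ⟨t, hte, hta⟩ := exists_hom_extend c₂ UP (fun η hη => hUP η hη) e (pullback.snd (e ≫ q) q)
    (k₂ ≫ pullback.fst e W.ι) (by
      rw [Category.assoc, pullback.condition, sqv.lift_snd_assoc, IsOpenImmersion.lift_fac])
  have hRt : ∀ {T : Scheme.{u}} (r : T ⟶ P), (∀ x, (pullback.fst (e ≫ q) q ≫ e ≫ q) (r x) ∈ U) →
      R (r ≫ t) (r ≫ pullback.fst (e ≫ q) q) := fun {T} r hr => by
    let r' : T ⟶ (UP : Scheme.{u}) := IsOpenImmersion.lift UP.ι r (by
      rintro _ ⟨x, rfl⟩; rw [Scheme.Opens.range_ι]; exact hr x)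
    have hr' : r' ≫ UP.ι = r := IsOpenImmersion.lift_fac _ _ _
    refine ⟨r' ≫ k₂, r' ≫ k₁, ?_, ?_, ?_⟩
    · rw [Category.assoc, ← hta, reassoc_of% hr']
    · rw [Category.assoc, pullback.lift_fst, reassoc_of% hr']
    · rw [Category.assoc, Category.assoc, sqv.lift_fst]
  have htau : EtDescX.IsTau e t := by
    refine ⟨hte, ?_, ?_⟩
    · refine eq_of_dense (e ≫ pullback.snd f g) UE hUE e _ _
        (by rw [Category.assoc, hte, pullback.lift_snd, Category.id_comp]) (R_eq ?_ ?_)
      · have h := hRt (UE.ι ≫ pullback.lift (𝟙 E) e (by rw [Category.id_comp])) fun x => by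
          show (UE.ι ≫ (pullback.lift (𝟙 E) e (by rw [Category.id_comp]) ≫ pullback.fst (e ≫ q) q) ≫ e ≫ q) x ∈ U
          rw [pullback.lift_fst, Category.id_comp]
          exact x.2
        simpa only [Category.assoc, pullback.lift_fst, Category.comp_id] using h
      · rw [Category.assoc, Category.assoc, hte, pullback.lift_snd, Category.comp_id]
    · obtain ⟨c₃, hc₃, -, hUT⟩ := exists_smooth_pair f U g (pullback.snd (e ≫ q) q ≫ q) (pullback.fst g g ≫ g) c₂
        (by
          rw [reassoc_of% hc₂w, ← hP2]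
          simp only [Category.assoc, q, ← pullback.condition])
        (fun η hη => by rw [← hP2]; exact hUP η hη)
      haveI := hc₃
      let T := pullback (pullback.snd (e ≫ q) q ≫ q) q
      let π₁ := pullback.fst (pullback.snd (e ≫ q) q ≫ q) q
      let π₂ := pullback.snd (pullback.snd (e ≫ q) q ≫ q) q
      let UT : T.Opens := (π₁ ≫ pullback.snd (e ≫ q) q ≫ q) ⁻¹ᵁ U
      refine eq_of_dense c₃ UT (fun η hη => hUT η hη) e _ _ (by simp only [Category.assoc, hte, pullback.lift_snd])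
        (R_eq ?_ (by simp only [Category.assoc, hte, pullback.lift_snd]))
      have hmem : ∀ x : (UT : Scheme.{u}), (UT.ι ≫ π₁ ≫ pullback.fst (e ≫ q) q ≫ e ≫ q) x ∈ U := fun x => by
        rw [hP2]; exact x.2
      have h₁ := hRt (UT.ι ≫ π₁) fun x => hmem x
      have hA := hRt (UT.ι ≫ pullback.lift (π₁ ≫ t) π₂ (EtDescX.triples_w e t hte)) fun x => by
        show (UT.ι ≫ (pullback.lift (π₁ ≫ t) π₂ (EtDescX.triples_w e t hte) ≫ pullback.fst (e ≫ q) q) ≫ e ≫ q) x ∈ U
        rw [pullback.lift_fst, Category.assoc, reassoc_of% hte]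
        exact x.2
      have hB := hRt (UT.ι ≫ pullback.lift (π₁ ≫ pullback.fst (e ≫ q) q) π₂ (EtDescX.triples_w' e)) fun x => by
        show (UT.ι ≫ (pullback.lift (π₁ ≫ pullback.fst (e ≫ q) q) π₂ (EtDescX.triples_w' e) ≫
          pullback.fst (e ≫ q) q) ≫ e ≫ q) x ∈ U
        rw [pullback.lift_fst, Category.assoc]
        exact hmem x
      simp only [Category.assoc, pullback.lift_fst] at hA hB h₁
      exact R_trans (R_trans hA h₁) (R_symm hB)
  let D : Desc.SchDD q := EtDescX.ddOfTau htau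
  obtain ⟨Y, hYf, hYe, ⟨j⟩⟩ := heff D ‹IsFinite e› ‹Etale e›
  obtain ⟨w, sqw, hinv⟩ := EtDescX.exists_invariant_of_iso D j
  have htau' : (EtDescX.tauPt D).left = t := by
    show pullback.lift _ _ _ ≫ t = t
    refine (congrArg (· ≫ t) ?_).trans (Category.id_comp t)
    apply pullback.hom_ext
    · rw [pullback.lift_fst]; exact (Category.id_comp _).symm
    · rw [pullback.lift_snd]; exact (Category.id_comp _).symm
  rw [htau'] at hinv
  replace hinv : t ≫ w = pullback.fst (e ≫ q) q ≫ w := hinv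
  replace sqw : IsPullback e w q Y.hom := sqw
  haveI := hYf
  haveI := hYe
  let YU := pullback Y.hom U.ι
  let π : P₁ ⟶ YU := pullback.lift (pullback.fst e W.ι ≫ w) (pullback.snd e W.ι ≫ q ∣_ U) (by
    rw [Category.assoc, ← sqw.w, Category.assoc, morphismRestrict_ι]
    exact pullback.condition_assoc (f := e) (g := W.ι) q)
  have sqo : IsPullback (π ≫ pullback.fst Y.hom U.ι) (pullback.snd e W.ι) Y.hom (q ∣_ U ≫ U.ι) := by
    rw [pullback.lift_fst, morphismRestrict_ι]
    exact (IsPullback.of_hasPullback e W.ι).paste_horiz sqw.flip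
  have sqπ : IsPullback π (pullback.snd e W.ι) (pullback.snd Y.hom U.ι) (q ∣_ U) :=
    sqo.of_right (pullback.lift_snd _ _ _) (IsPullback.of_hasPullback _ _)
  have hqU : SGA1.UnivSubmersive (q ∣_ U) :=
    SGA1Q.univSubmersive_of_isPullback hsub (isPullback_morphismRestrict q U)
  have hπ : SGA1.UnivSubmersive π := SGA1Q.univSubmersive_of_isPullback hqU sqπ
  obtain ⟨σ, hσu, hσ⟩ := EtDescX.exists_descend π hπ V.hom (pullback.snd Y.hom U.ι) v
    (sqv.w.trans (pullback.lift_snd _ _ _).symm) fun T a₀ a₁ ha => by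
    have hw : a₀ ≫ pullback.fst e W.ι ≫ w = a₁ ≫ pullback.fst e W.ι ≫ w := by
      have := congrArg (· ≫ pullback.fst Y.hom U.ι) ha
      simpa only [π, Category.assoc, pullback.lift_fst] using this
    have hwq : (a₀ ≫ pullback.fst e W.ι) ≫ e ≫ q = (a₁ ≫ pullback.fst e W.ι ≫ e) ≫ q := by
      simp only [Category.assoc]
      have := congrArg (· ≫ Y.hom) hw
      simpa only [Category.assoc, ← sqw.w] using this
    let r : T ⟶ P := pullback.lift (a₀ ≫ pullback.fst e W.ι) (a₁ ≫ pullback.fst e W.ι ≫ e) hwq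
    have hr : ∀ x, (pullback.fst (e ≫ q) q ≫ e ≫ q) (r x) ∈ U := fun x => by
      show (((r ≫ pullback.fst (e ≫ q) q) ≫ e) ≫ q) x ∈ U
      rw [pullback.lift_fst, Category.assoc a₀, pullback.condition]
      exact ((a₀ ≫ pullback.snd e W.ι) x).2
    have h1 : r ≫ t = a₁ ≫ pullback.fst e W.ι := by
      refine sqw.hom_ext ?_ ?_
      · rw [Category.assoc, hte, pullback.lift_snd, Category.assoc]
      · rw [Category.assoc, hinv, pullback.lift_fst_assoc, Category.assoc, Category.assoc, hw]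
    obtain ⟨k, k', hk, hk', hkv⟩ := hRt r hr
    rw [h1] at hk
    rw [pullback.lift_fst] at hk'
    rw [(cancel_mono _).1 hk, (cancel_mono _).1 hk'] at hkv
    exact hkv.symm
  obtain ⟨σ', hσ'u, hσ'⟩ := EtDescX.exists_descend v (SGA1Q.univSubmersive_of_isPullback hqU sqv)
    (pullback.snd Y.hom U.ι) V.hom π ((pullback.lift_snd _ _ _).trans sqv.w.symm) fun T a₀ a₁ ha => by
    apply pullback.hom_ext
    · simp only [π, Category.assoc, pullback.lift_fst]
      have hsnd : a₀ ≫ pullback.snd e W.ι ≫ q ∣_ U = a₁ ≫ pullback.snd e W.ι ≫ q ∣_ U := by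
        rw [← sqv.w, reassoc_of% ha]
      have hwq : (a₀ ≫ pullback.fst e W.ι) ≫ e ≫ q = (a₁ ≫ pullback.fst e W.ι ≫ e) ≫ q := by
        simp only [Category.assoc, pullback.condition_assoc]
        have := congrArg (· ≫ U.ι) hsnd
        simpa only [Category.assoc, morphismRestrict_ι] using this
      let r : T ⟶ P := pullback.lift (a₀ ≫ pullback.fst e W.ι) (a₁ ≫ pullback.fst e W.ι ≫ e) hwq
      have hr : ∀ x, (pullback.fst (e ≫ q) q ≫ e ≫ q) (r x) ∈ U := fun x => by
        show (((r ≫ pullback.fst (e ≫ q) q) ≫ e) ≫ q) x ∈ U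
        rw [pullback.lift_fst, Category.assoc a₀, pullback.condition]
        exact ((a₀ ≫ pullback.snd e W.ι) x).2
      have h1 : r ≫ t = a₁ ≫ pullback.fst e W.ι := by
        refine R_eq (R_trans (hRt r hr) ?_) (by rw [Category.assoc, hte, pullback.lift_snd, Category.assoc])
        exact ⟨a₀, a₁, (pullback.lift_fst _ _ _).symm, rfl, ha⟩
      rw [← Category.assoc a₁, ← h1, Category.assoc, hinv, pullback.lift_fst_assoc, Category.assoc]
    · simp only [π, Category.assoc, pullback.lift_snd, ← sqv.w, reassoc_of% ha]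
  haveI : Surjective π := EtDescX.surjective_of_univSubmersive hπ
  haveI : Surjective v := EtDescX.surjective_of_univSubmersive (SGA1Q.univSubmersive_of_isPullback hqU sqv)
  have e₁ : σ ≫ σ' = 𝟙 YU := EtDescX.hom_ext_of_surjective π (pullback.snd Y.hom U.ι) _ _
    (by rw [Category.assoc, hσ'u, hσu, Category.id_comp]) (by rw [reassoc_of% hσ, hσ', Category.comp_id])
  have e₂ : σ' ≫ σ = 𝟙 V.left := EtDescX.hom_ext_of_surjective v V.hom _ _
    (by rw [Category.assoc, hσu, hσ'u, Category.id_comp]) (by rw [reassoc_of% hσ', hσ, Category.comp_id])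
  refine ⟨MorphismProperty.Over.mk ⊤ Y.hom ⟨hYf, hYe⟩, ⟨MorphismProperty.Over.isoMk
    ⟨σ, σ', e₁, e₂⟩ hσu⟩⟩

end Descent

end Groth.Agent.RelPure

end
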