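import Groth.Agent.RelPure.Descent
import Groth.Agent.ExtGlue.Main

/-!
# Relative purity: restriction to an open with complement of codimension two in every fibre
-/

set_option autoImplicit false
set_option linter.style.haveILetI false
set_option backward.isDefEq.respectTransparency false
set_option backward.isDefEq.respectTransparency.types false

universe u

open CategoryTheory CategoryTheory.Limits AlgebraicGeometry TopologicalSpace

noncomputable section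

namespace Groth.Agent.RelPure

open Groth.Agent Groth.Agent.ExtGlue Groth.Agent.Pi1Ext.Spread FibDim

variable {X S : Scheme.{u}} (f : X ⟶ S)

theorem rd_comp_openImmersion {Y T : Scheme.{u}} (g : Y ⟶ T) (m : T ⟶ S) [IsOpenImmersion m]
    [LocallyOfFiniteType g] (y : Y) : rd (g ≫ m) y = rd g y := by
  have h0 : rd m (g y) = 0 := by
    have := rd_eq_rdeg m (g y)
    rw [VarDim.rdeg_preimmersion] at this
    exact_mod_cast this
  rw [CycLib.rd_comp, h0]
  omega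

theorem codim2_of_comp_openImmersion {Y T : Scheme.{u}} (g : Y ⟶ T) (m : T ⟶ S) [IsOpenImmersion m]
    [LocallyOfFiniteType g] {U : Set Y} (h : Codim2 (g ≫ m) U) : Codim2 g U := fun y hy => by
  obtain ⟨w, hw, hfw, hle⟩ := h y hy
  refine ⟨w, hw, m.isOpenEmbedding.injective hfw, ?_⟩
  rwa [rd_comp_openImmersion, rd_comp_openImmersion] at hle

variable [Smooth f]

/-- Restriction from any open to its trace on `U` is fully faithful. -/
theorem ff_inf {U : Set X} (hU : Codim2 f U) (W : X.Opens) {P : Scheme.{u}} (i : P ⟶ (W : Scheme.{u}))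
    [IsOpenImmersion i] (hi : ∀ w : (W : Scheme.{u}), W.ι w ∈ U → w ∈ Set.range i) :
    (FEt.restrict i).Full ∧ (FEt.restrict i).Faithful :=
  restrict_ff (W.ι ≫ f) i fun η hη => hi η ((hU.opens_ι f W).fibMax_mem (W.ι ≫ f) hη)

theorem range_homOfLE_inf (W U : X.Opens) (w : (W : Scheme.{u})) (hw : W.ι w ∈ U) :
    w ∈ Set.range (X.homOfLE (inf_le_left : W ⊓ U ≤ W)) := by
  refine ⟨⟨W.ι w, w.2, hw⟩, W.ι.isOpenEmbedding.injective ?_⟩
  rw [← Scheme.Hom.comp_apply, X.homOfLE_ι]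
  rfl

variable (U : X.Opens) (hU : Codim2 f U)

include hU in
theorem exists_nhd_ext (E : FEt.Cat (U : Scheme.{u})) (x : X) {O : X.Opens} (hxO : x ∈ O) :
    ∃ W : X.Opens, x ∈ W ∧ W ≤ O ∧ Nonempty (Ext U E W) := by
  obtain ⟨V, hV, hxV, -⟩ := exists_isAffineOpen_mem_and_subset (x := f x) (U := ⊤) trivial
  obtain ⟨W₀, hW₀, hxW₀, hW₀V⟩ := exists_isAffineOpen_mem_and_subset (x := x) (U := O ⊓ f ⁻¹ᵁ V) ⟨hxO, hxV⟩
  have hle : W₀ ≤ f ⁻¹ᵁ V := fun z hz => (hW₀V hz).2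
  -- the trace of the open on the fibre is compact
  let q₀ : (W₀ : Scheme.{u}) ⟶ (V : Scheme.{u}) := f.resLE V W₀ hle
  haveI : IsAffine (W₀ : Scheme.{u}) := hW₀
  haveI : IsAffine (V : Scheme.{u}) := hV
  haveI : Smooth q₀ := inferInstance
  let s : (V : Scheme.{u}) := ⟨f x, hxV⟩
  haveI : IsLocallyNoetherian (q₀.fiber s) :=
    LocallyOfFiniteType.isLocallyNoetherian (q₀.fiberToSpecResidueField s)
  haveI : CompactSpace (q₀.fiber s) :=
    QuasiCompact.compactSpace_of_compactSpace (q₀.fiberToSpecResidueField s)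
  haveI : IsNoetherian (q₀.fiber s) := ⟨⟩
  let K : Set X := (q₀.fiberι s ≫ W₀.ι) '' ((q₀.fiberι s ≫ W₀.ι) ⁻¹' (U : Set X))
  have hK : IsCompact K :=
    (NoetherianSpace.isCompact _).image (q₀.fiberι s ≫ W₀.ι).continuous
  have hKsub : K ⊆ (W₀ : Set X) ∩ (U : Set X) := by
    rintro _ ⟨w, hw, rfl⟩
    exact ⟨(q₀.fiberι s w).2, hw⟩
  have hKmem : ∀ z, z ∈ W₀ → z ∈ U → f z = f x → z ∈ K := fun z hz hzU hfz => by
    obtain ⟨w, hw⟩ : (⟨z, hz⟩ : (W₀ : Scheme.{u})) ∈ Set.range (q₀.fiberι s) := by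
      rw [Scheme.Hom.range_fiberι]
      refine V.ι.isOpenEmbedding.injective ?_
      rw [← Scheme.Hom.comp_apply, Scheme.Hom.resLE_comp_ι]
      exact hfz
    have : (q₀.fiberι s ≫ W₀.ι) w = z := by
      show W₀.ι (q₀.fiberι s w) = z
      rw [hw]
      rfl
    exact ⟨w, show (q₀.fiberι s ≫ W₀.ι) w ∈ U from this.symm ▸ hzU, this⟩
  choose A hA hzA hAsub using fun z : K => exists_isAffineOpen_mem_and_subset (x := z.1) (U := W₀ ⊓ U)
    (hKsub z.2)
  obtain ⟨t, ht⟩ := hK.elim_finite_subcover (fun z => (A z : Set X)) (fun z => (A z).isOpen)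
    fun z hz => Set.mem_iUnion.2 ⟨⟨z, hz⟩, hzA _⟩
  let U' : X.Opens := ⨆ z ∈ t, A z
  have hU'c : IsCompact (U' : Set X) := by
    simp only [U', Opens.coe_iSup]
    exact t.finite_toSet.isCompact_biUnion fun z _ => (hA z).isCompact
  have hU'le : U' ≤ W₀ ⊓ U := iSup₂_le fun z _ => hAsub z
  have hxgood : x ∈ good f U' := fun z hz hzx hfz => by
    have hzU : z ∉ U := fun h => hz <| by
      obtain ⟨z', hz't, hzz'⟩ := Set.mem_iUnion₂.1 (ht (hKmem z (hzx.mem_open W₀.isOpen hxW₀) h hfz))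
      exact Opens.mem_iSup.2 ⟨z', Opens.mem_iSup.2 ⟨hz't, hzz'⟩⟩
    obtain ⟨w, hw, hfw, hle'⟩ := hU z hzU
    exact ⟨w, hw.trans hzx, hfw.trans hfz, hle'⟩
  obtain ⟨W, hW, hxW, hWsub⟩ := exists_isAffineOpen_mem_and_subset (x := x)
    (U := ⟨good f U', isOpen_good f U'.isOpen⟩ ⊓ W₀) ⟨hxgood, hxW₀⟩
  have hWle : W ≤ f ⁻¹ᵁ V := fun z hz => hle (hWsub hz).2
  haveI : IsAffine (W : Scheme.{u}) := hW
  let q : (W : Scheme.{u}) ⟶ Spec Γ(S, V) := f.resLE V W hWle ≫ hV.isoSpec.hom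
  haveI : Smooth q := inferInstance
  have hq : q ≫ hV.fromSpec = W.ι ≫ f := by
    show (f.resLE V W hWle ≫ hV.isoSpec.hom) ≫ hV.isoSpec.inv ≫ V.ι = _
    rw [Category.assoc, Iso.hom_inv_id_assoc, Scheme.Hom.resLE_comp_ι]
  have hWU' : IsCompact ((W.ι ⁻¹ᵁ U' : (W : Scheme.{u}).Opens) : Set (W : Scheme.{u})) := by
    rw [Topology.IsInducing.isCompact_iff W.ι.isOpenEmbedding.isInducing]
    show IsCompact (W.ι '' (W.ι ⁻¹' (U' : Set X)))
    rw [Set.image_preimage_eq_inter_range, Scheme.Opens.range_ι]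
    exact hW₀.isQuasiSeparated _ _ (fun z hz => (hU'le hz).1) U'.isOpen hU'c
      (fun z hz => (hWsub hz).2) W.isOpen hW.isCompact
  have hc : Codim2 q (W.ι ⁻¹ᵁ U' : (W : Scheme.{u}).Opens) := by
    refine codim2_of_comp_openImmersion q hV.fromSpec ?_
    rw [hq]
    exact codim2_of_good f W fun z hz => (hWsub hz).1
  let a := X.homOfLE (inf_le_left : W ⊓ U ≤ W)
  let b := X.homOfLE (inf_le_right : W ⊓ U ≤ U)
  let i : ((W.ι ⁻¹ᵁ U' : (W : Scheme.{u}).Opens) : Scheme.{u}) ⟶ ((W ⊓ U : X.Opens) : Scheme.{u}) :=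
    IsOpenImmersion.lift (W ⊓ U).ι ((W.ι ⁻¹ᵁ U').ι ≫ W.ι) (by
      rintro _ ⟨z, rfl⟩
      rw [Scheme.Opens.range_ι]
      exact ⟨z.1.2, (hU'le z.2).2⟩)
  have hi : i ≫ (W ⊓ U).ι = (W.ι ⁻¹ᵁ U').ι ≫ W.ι := IsOpenImmersion.lift_fac _ _ _
  haveI : IsOpenImmersion (i ≫ (W ⊓ U).ι) := by rw [hi]; infer_instance
  haveI : IsOpenImmersion i := IsOpenImmersion.of_comp i (W ⊓ U).ι
  obtain ⟨Y, ⟨eY⟩⟩ := exists_extend_qc q (W.ι ⁻¹ᵁ U') hWU' hc ((FEt.restrict i).obj ((FEt.restrict b).obj E))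
  have hia : i ≫ a = (W.ι ⁻¹ᵁ U').ι := by
    rw [← cancel_mono W.ι, Category.assoc, X.homOfLE_ι, hi]
  obtain ⟨hfull, hfaith⟩ : (FEt.restrict i).Full ∧ (FEt.restrict i).Faithful := by
    refine restrict_ff ((W ⊓ U).ι ≫ f) i fun η hη => ?_
    have hm : (W ⊓ U).ι η ∈ U' := (codim2_of_good f (U := (U' : Set X)) (W ⊓ U)
      fun z hz => (hWsub hz.1).1).fibMax_mem ((W ⊓ U).ι ≫ f) hη
    refine ⟨⟨⟨(W ⊓ U).ι η, η.2.1⟩, hm⟩, (W ⊓ U).ι.isOpenEmbedding.injective ?_⟩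
    rw [← Scheme.Hom.comp_apply, hi]
    rfl
  exact ⟨W, hxW, fun z hz => (hW₀V (hWsub hz).2).1, ⟨⟨Y, (FEt.restrict i).preimageIso
    ((restrictComp i a _ hia.symm Y).symm ≪≫ eY)⟩⟩⟩

include hU in
/-- Relative purity. -/
theorem restrict_isEquivalence : (FEt.restrict U.ι).IsEquivalence := by
  obtain ⟨hfull, hfaith⟩ := restrict_ff f U.ι fun η hη => by
    rw [Scheme.Opens.range_ι]; exact hU.fibMax_mem f hη
  haveI : (FEt.restrict U.ι).EssSurj := ⟨fun E => by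
    refine exists_extension (Y := E) ?_ (fun W => ff_inf f hU W _ (range_homOfLE_inf W U)) ⟨⟨E, Iso.refl _⟩⟩
    refine Opens.isBasis_iff_nbhd.2 fun {O} {x} hxO => ?_
    obtain ⟨W, hxW, hWO, hWE⟩ := exists_nhd_ext f U hU E x hxO
    exact ⟨W, hWE, hxW, hWO⟩⟩
  exact {}

/-- Relative purity for an open immersion. -/
theorem restrict_isEquivalence' {P : Scheme.{u}} (j : P ⟶ X) [IsOpenImmersion j]
    (hj : Codim2 f (Set.range j)) : (FEt.restrict j).IsEquivalence := by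
  haveI := restrict_isEquivalence f j.opensRange hj
  have hid : ∀ A : Scheme.{u}, Nonempty (FEt.restrict (𝟙 A) ≅ 𝟭 (FEt.Cat A)) := fun A =>
    ⟨NatIso.ofComponents (fun E => restrictId E) fun {E E'} g => MorphismProperty.Over.Hom.ext (by
      simp [restrictId, FEt.restrict])⟩
  let e : P ≅ (j.opensRange : Scheme.{u}) := j.isoOpensRange
  haveI : (FEt.restrict e.hom).IsEquivalence := Functor.IsEquivalence.mk' (FEt.restrict e.inv)
    ((hid _).some.symm ≪≫ MorphismProperty.Over.pullbackComp e.inv e.hom _ e.inv_hom_id.symm)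
    ((MorphismProperty.Over.pullbackComp e.hom e.inv _ e.hom_inv_id.symm).symm ≪≫ (hid _).some)
  haveI : (MorphismProperty.Over.pullback FEt.prop ⊤ j.opensRange.ι ⋙
      MorphismProperty.Over.pullback FEt.prop ⊤ e.hom).IsEquivalence :=
    inferInstanceAs (FEt.restrict j.opensRange.ι ⋙ FEt.restrict e.hom).IsEquivalence
  exact Functor.isEquivalence_of_iso (MorphismProperty.Over.pullbackComp e.hom j.opensRange.ι j
    (Scheme.Hom.isoOpensRange_hom_ι j).symm :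
      FEt.restrict j ≅ FEt.restrict j.opensRange.ι ⋙ FEt.restrict e.hom).symm

end Groth.Agent.RelPure

end
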