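import Groth.Agent.RelPure.ThmA
import Groth.Agent.RelPure.Global

/-!
# A cover of a fibrewise dense open extends if it extends over the fibres at the maximal points: any base
-/

set_option autoImplicit false
attribute [-instance] CategoryTheory.catToReflQuiver
set_option linter.style.haveILetI false
set_option backward.isDefEq.respectTransparency false
set_option backward.isDefEq.respectTransparency.types false

universe u

open CategoryTheory CategoryTheory.Limits AlgebraicGeometry TopologicalSpace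

noncomputable section

namespace Groth.Agent.RelPure

open Groth.Agent Groth.Agent.ExtGlue Groth.Agent.Pi1Ext.Spread

variable {X S : Scheme.{u}}

theorem isFibMax_opens_ι {f : X ⟶ S} (W : X.Opens) {η : (W : Scheme.{u})} :
    IsFibMax (W.ι ≫ f) η ↔ IsFibMax f (W.ι η) := by
  constructor
  · intro h z hz hfz
    have hzW : z ∈ W := hz.mem_open W.isOpen η.2
    exact congrArg W.ι (h ⟨z, hzW⟩ (W.ι.isOpenEmbedding.isInducing.specializes_iff.1 hz) hfz)
  · intro h z hz hfz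
    exact W.ι.isOpenEmbedding.injective (h (W.ι z) (hz.map W.ι.continuous) hfz)

theorem isFibMax_comp_openImmersion {T : Scheme.{u}} (g : X ⟶ T) (m : T ⟶ S) [IsOpenImmersion m] {η : X} :
    IsFibMax (g ≫ m) η ↔ IsFibMax g η :=
  ⟨fun h z hz hfz => h z hz (congrArg m hfz), fun h z hz hfz => h z hz (m.isOpenEmbedding.injective hfz)⟩

/-- A fibrewise dense open of a quasi-compact scheme contains a quasi-compact one. -/
theorem exists_compact_dense (f : X ⟶ S) [Smooth f] [CompactSpace X] (U : X.Opens)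
    (hU : ∀ η, IsFibMax f η → η ∈ U) :
    ∃ U₀ : X.Opens, U₀ ≤ U ∧ IsCompact (U₀ : Set X) ∧ ∀ η, IsFibMax f η → η ∈ U₀ := by
  have hA : ∀ x : X, ∃ A : X.Opens, IsAffineOpen A ∧ A ≤ U ∧ x ∈ spread f (A : Set X) := fun x => by
    obtain ⟨η, hηx, hfη, hηm, -, -⟩ := exists_eta f x
    obtain ⟨A, hA, hηA, hAU⟩ := exists_isAffineOpen_mem_and_subset (x := η) (U := U) (hU η hηm)
    exact ⟨A, hA, hAU, (mem_spread_iff f hηx hfη hηm).2 hηA⟩
  choose A hA hAU hxA using hA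
  obtain ⟨t, ht⟩ := isCompact_univ.elim_finite_subcover (fun x => spread f (A x : Set X))
    (fun x => isOpen_spread f (A x).isOpen) fun x _ => Set.mem_iUnion.2 ⟨x, hxA x⟩
  refine ⟨⨆ x ∈ t, A x, iSup₂_le fun x _ => hAU x, ?_, fun η hη => ?_⟩
  · simp only [Opens.coe_iSup]
    exact t.finite_toSet.isCompact_biUnion fun z _ => (hA z).isCompact
  · obtain ⟨x, hxt, hx⟩ := Set.mem_iUnion₂.1 (ht (Set.mem_univ η))
    exact Opens.mem_iSup.2 ⟨x, Opens.mem_iSup.2 ⟨hxt, hx η specializes_rfl rfl hη⟩⟩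

variable (f : X ⟶ S) [Smooth f] {U : X.Opens} (hU : ∀ η, IsFibMax f η → η ∈ U) {V : FEt.Cat (U : Scheme.{u})}
  (hs : ∀ s : S, (∀ s', s' ⤳ s → s' = s) → ExtendsAlong f U V (S.fromSpecResidueField s))

include hU hs

theorem exists_nhd_extend (x : X) {O : X.Opens} (hxO : x ∈ O) :
    ∃ W : X.Opens, x ∈ W ∧ W ≤ O ∧ Nonempty (Ext U V W) := by
  obtain ⟨V', hV', hxV, -⟩ := exists_isAffineOpen_mem_and_subset (x := f x) (U := ⊤) trivial
  obtain ⟨W, hW, hxW, hWsub⟩ := exists_isAffineOpen_mem_and_subset (x := x) (U := O ⊓ f ⁻¹ᵁ V') ⟨hxO, hxV⟩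
  haveI : IsAffine (W : Scheme.{u}) := hW
  let q : (W : Scheme.{u}) ⟶ Spec Γ(S, V') := f.resLE V' W (fun z hz => (hWsub hz).2) ≫ hV'.isoSpec.hom
  haveI : IsAffine (V' : Scheme.{u}) := hV'
  haveI : Smooth q := inferInstance
  have hq : q ≫ hV'.fromSpec = W.ι ≫ f := by
    show (f.resLE V' W _ ≫ hV'.isoSpec.hom) ≫ hV'.isoSpec.inv ≫ V'.ι = _
    rw [Category.assoc, Iso.hom_inv_id_assoc, Scheme.Hom.resLE_comp_ι]
  have hmax : ∀ η, IsFibMax q η → η ∈ W.ι ⁻¹ᵁ U := fun η hη => hU _ <| by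
    rw [← isFibMax_comp_openImmersion q hV'.fromSpec, hq, isFibMax_opens_ι] at hη
    exact hη
  obtain ⟨U₀, hU₀le, hU₀c, hU₀⟩ := exists_compact_dense q (W.ι ⁻¹ᵁ U) hmax
  let E : FEt.Cat (U₀ : Scheme.{u}) :=
    (FEt.restrict ((W : Scheme.{u}).homOfLE hU₀le)).obj ((FEt.restrict (W.ι ∣_ U)).obj V)
  obtain ⟨Y, ⟨eY⟩⟩ := exists_extend_affine q U₀ hU₀c hU₀ E fun r hr => by
    have hrS : ∀ s', s' ⤳ hV'.fromSpec r → s' = hV'.fromSpec r := fun s' hs' => by
      obtain ⟨r', rfl⟩ : s' ∈ Set.range hV'.fromSpec := by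
        rw [hV'.range_fromSpec]
        refine hs'.mem_open V'.isOpen ?_
        exact hV'.range_fromSpec.le ⟨r, rfl⟩
      rw [hr r' (hV'.fromSpec.isOpenEmbedding.isInducing.specializes_iff.1 hs')]
    refine ((hs _ hrS).of_map (f₁ := q) W.ι
      (pullback.map q _ f _ W.ι (Spec.map (hV'.fromSpec.residueFieldMap r)) hV'.fromSpec hq
        (Scheme.Hom.SpecMap_residueFieldMap_fromSpecResidueField _ r).symm) (pullback.lift_fst _ _ _)).congr
      hU₀le (Iso.refl _)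
  let a := X.homOfLE (inf_le_left : W ⊓ U ≤ W)
  let b := X.homOfLE (inf_le_right : W ⊓ U ≤ U)
  let i : (U₀ : Scheme.{u}) ⟶ ((W ⊓ U : X.Opens) : Scheme.{u}) :=
    IsOpenImmersion.lift (W ⊓ U).ι (U₀.ι ≫ W.ι) (by
      rintro _ ⟨z, rfl⟩
      rw [Scheme.Opens.range_ι]
      exact ⟨z.1.2, hU₀le z.2⟩)
  have hi : i ≫ (W ⊓ U).ι = U₀.ι ≫ W.ι := IsOpenImmersion.lift_fac _ _ _
  haveI : IsOpenImmersion (i ≫ (W ⊓ U).ι) := by rw [hi]; infer_instance
  haveI : IsOpenImmersion i := IsOpenImmersion.of_comp i (W ⊓ U).ι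
  have hia : i ≫ a = U₀.ι := by
    rw [← cancel_mono W.ι, Category.assoc, X.homOfLE_ι, hi]
  have hib : (W : Scheme.{u}).homOfLE hU₀le ≫ W.ι ∣_ U = i ≫ b := by
    rw [← cancel_mono U.ι, Category.assoc, Category.assoc, morphismRestrict_ι, X.homOfLE_ι, hi]
    exact (W : Scheme.{u}).homOfLE_ι_assoc _ _
  obtain ⟨hfull, hfaith⟩ : (FEt.restrict i).Full ∧ (FEt.restrict i).Faithful := by
    refine restrict_ff ((W ⊓ U).ι ≫ f) i fun η hη => ?_
    rw [isFibMax_opens_ι] at hη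
    let w : (W : Scheme.{u}) := ⟨(W ⊓ U).ι η, η.2.1⟩
    have hw : IsFibMax q w := by
      rw [← isFibMax_comp_openImmersion q hV'.fromSpec, hq, isFibMax_opens_ι]
      exact hη
    refine ⟨⟨w, hU₀ w hw⟩, (W ⊓ U).ι.isOpenEmbedding.injective ?_⟩
    rw [← Scheme.Hom.comp_apply, hi]
    rfl
  exact ⟨W, hxW, fun z hz => (hWsub hz).1, ⟨⟨Y, (FEt.restrict i).preimageIso
    ((restrictComp i a _ hia.symm Y).symm ≪≫ eY ≪≫ (restrictComp _ _ _ rfl V).symm ≪≫
      restrictComp i b _ hib V)⟩⟩⟩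

/-- A cover of a fibrewise dense open of a smooth scheme extends if it does over the fibres at the maximal
points of the base. -/
theorem exists_extend : ∃ Y : FEt.Cat X, Nonempty ((FEt.restrict U.ι).obj Y ≅ V) := by
  refine exists_extension (Y := V) ?_ (fun W => restrict_ff (W.ι ≫ f) _ fun η hη => ?_) ⟨⟨V, Iso.refl _⟩⟩
  · refine Opens.isBasis_iff_nbhd.2 fun {O} {x} hxO => ?_
    obtain ⟨W, hxW, hWO, hWE⟩ := exists_nhd_extend f hU hs x hxO
    exact ⟨W, hWE, hxW, hWO⟩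
  · exact range_homOfLE_inf W U η (hU _ ((isFibMax_opens_ι W).1 hη))

end Groth.Agent.RelPure

end
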