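import Groth.Agent.Pi1X.FEtFull
import Groth.Agent.Pi1X.FEtBasic
import Groth.Agent.FibDim.Semicont
import Groth.Agent.AlgSpDec.SmoothLocDim
import Groth.Agent.AlgSpDec.FibreDimEtale
import Groth.Agent.GrpSchLib.SmoothRegular
import Groth.Agent.S2768

/-!
# Fibrewise dense opens of smooth schemes: clopen subsets extend and restriction is fully faithful
-/

set_option autoImplicit false
set_option linter.style.haveILetI false
set_option backward.isDefEq.respectTransparency false
set_option backward.isDefEq.respectTransparency.types false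

universe u

open CategoryTheory CategoryTheory.Limits AlgebraicGeometry

noncomputable section

namespace Groth.Agent.RelPure

open Groth.Agent FibDim

variable {X S : Scheme.{u}} (f : X ⟶ S)

/-- A point with no proper generization in its fibre. -/
def IsFibMax (x : X) : Prop := ∀ z, z ⤳ x → f z = f x → z = x

variable [Smooth f]

/-- In a fibre of a smooth morphism the generizations of a point have a common generization, maximal. -/
theorem exists_eta (x : X) : ∃ η, η ⤳ x ∧ f η = f x ∧ IsFibMax f η ∧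
    (∀ z, z ⤳ x → f z = f x → η ⤳ z) ∧
    FlatMor.fibreDimAt f x = ((rd f η : ℕ∞) : WithBot ℕ∞) := by
  haveI hsm : Smooth (f.fiberToSpecResidueField (f x)) := MorphismProperty.pullback_snd _ _ ‹_›
  haveI : IsRegularLocalRing ((f.fiber (f x)).presheaf.stalk (f.asFiber x)) :=
    @GrpSchLib.isRegularLocalRing_stalk_of_smooth (S.residueField (f x)) _ (f.fiber (f x))
      (f.fiberToSpecResidueField (f x)) hsm (f.asFiber x)
  haveI : IsDomain ((f.fiber (f x)).presheaf.stalk (f.asFiber x)) :=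
    RegLoc6.isDomain_of_isRegularLocalRing _
  let F := f.fiber (f x)
  let p₀ : PrimeSpectrum (F.presheaf.stalk (f.asFiber x)) := ⟨⊥, Ideal.isPrime_bot⟩
  let η := f.fiberι (f x) (F.fromSpecStalk (f.asFiber x) p₀)
  have hfib : ∀ w, f (f.fiberι (f x) w) = f x := fun w => by
    have : f.fiberι (f x) w ∈ Set.range (f.fiberι (f x)) := ⟨w, rfl⟩
    rw [Scheme.Hom.range_fiberι] at this
    exact this
  have hall : ∀ z, z ⤳ x → f z = f x → η ⤳ z := fun z hz hfz => by
    obtain ⟨w, rfl⟩ : z ∈ Set.range (f.fiberι (f x)) := by rw [Scheme.Hom.range_fiberι]; exact hfz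
    have hw : w ⤳ f.asFiber x := by
      rw [← (f.fiberι (f x)).isEmbedding.isInducing.specializes_iff, Scheme.Hom.fiberι_asFiber]
      exact hz
    obtain ⟨q, rfl⟩ := (Scheme.range_fromSpecStalk (X := F) (x := f.asFiber x)).ge hw
    exact (((PrimeSpectrum.le_iff_specializes p₀ q).1 (PrimeSpectrum.asIdeal_le_asIdeal _ _ |>.1 bot_le)).map
      (F.fromSpecStalk (f.asFiber x)).continuous).map (f.fiberι (f x)).continuous
  have hηx : η ⤳ x := by
    have hw : F.fromSpecStalk (f.asFiber x) p₀ ⤳ f.asFiber x :=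
      (Scheme.range_fromSpecStalk (X := F) (x := f.asFiber x)).le ⟨p₀, rfl⟩
    have := hw.map (f.fiberι (f x)).continuous
    rwa [Scheme.Hom.fiberι_asFiber] at this
  refine ⟨η, hηx, hfib _, fun z hz hfz => ?_, hall, ?_⟩
  · by_contra hne
    have h1 := rd_lt f hz hne hfz
    exact absurd (rd_le_of_specializes f (hall z (hz.trans hηx) (hfz.trans (hfib _))) hfz.symm)
      (not_le.2 h1)
  · obtain ⟨z, hzx, hfz, he, hmax⟩ := exists_fibreDimAt_eq f x
    rw [he]
    have h1 : rd f z ≤ rd f η := rd_le_of_specializes f (hall z hzx hfz) ((hfib _).trans hfz.symm)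
    have h2 : rd f η ≤ rd f z := hmax η hηx (hfib _)
    rw [le_antisymm h1 h2]

/-- The fibre dimension is locally constant. -/
theorem exists_nhd_fibreDimAt (x : X) : ∃ W : X.Opens, x ∈ W ∧
    ∀ z ∈ W, FlatMor.fibreDimAt f z = FlatMor.fibreDimAt f x := by
  obtain ⟨V, j, v, n, hj, rfl, hn⟩ := AlgSpDec.SmoothLocDim.exists_smoothOfRelativeDimension_nhd f x
  refine ⟨j.opensRange, ⟨v, rfl⟩, ?_⟩
  rintro _ ⟨w, rfl⟩
  rw [← AlgSpDec.fibreDimAt_etale_comp j f w, ← AlgSpDec.fibreDimAt_etale_comp j f v,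
    S2768.result n (j ≫ f) w, S2768.result n (j ≫ f) v]

/-- The points whose fibre component has its generic point in a given set. -/
def spread (C : Set X) : Set X := {x | ∀ η, η ⤳ x → f η = f x → IsFibMax f η → η ∈ C}

theorem eta_unique {x η η' : X} (h : η ⤳ x) (he : f η = f x) (hm : IsFibMax f η)
    (h' : η' ⤳ x) (he' : f η' = f x) (hm' : IsFibMax f η') : η = η' := by
  obtain ⟨ζ, -, hfζ, -, hall, -⟩ := exists_eta f x
  rw [← hm ζ (hall η h he) (hfζ.trans he.symm), ← hm' ζ (hall η' h' he') (hfζ.trans he'.symm)]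

theorem mem_spread_iff {C : Set X} {x η : X} (h : η ⤳ x) (he : f η = f x) (hm : IsFibMax f η) :
    x ∈ spread f C ↔ η ∈ C :=
  ⟨fun hx => hx η h he hm, fun hη η' h' he' hm' => eta_unique f h he hm h' he' hm' ▸ hη⟩

/-- The spread of an open set is open. -/
theorem isOpen_spread {C : Set X} (hC : IsOpen C) : IsOpen (spread f C) := by
  refine isOpen_iff_forall_mem_open.2 fun x hx => ?_
  obtain ⟨η, hηx, hfη, hηm, hall, hd⟩ := exists_eta f x
  have hηC : η ∈ C := hx η hηx hfη hηm
  by_cases hxC : x ∈ C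
  · exact ⟨C, fun z hz η' h' _ _ => h'.mem_open hC hz, hC, hxC⟩
  obtain ⟨n, hn⟩ : ∃ n, rd f η = n + 1 := by
    refine Nat.exists_eq_succ_of_ne_zero fun h0 => ?_
    have := rd_lt f hηx (fun h => hxC (h ▸ hηC)) hfη
    omega
  haveI : IsLocallyNoetherian (f.fiber (f x)) :=
    LocallyOfFiniteType.isLocallyNoetherian (f.fiberToSpecResidueField (f x))
  obtain ⟨W, hxW, hW⟩ := exists_nhd_generizing (X := f.fiber (f x)) isClosed_univ (f.asFiber x)
  obtain ⟨W', hW', hWW'⟩ := (f.fiberι (f x)).isEmbedding.isInducing.isOpen_iff.mp W.isOpen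
  have hxW' : x ∈ W' := by
    have : f.asFiber x ∈ (f.fiberι (f x)) ⁻¹' W' := hWW'.symm ▸ hxW
    simpa [Scheme.Hom.fiberι_asFiber] using this
  have hdim : topologicalKrullDim ↥(W' ∩ Cᶜ ∩ f ⁻¹' {f x}) ≤ n := by
    refine (dim_inter_le_iff f _ hW' hC.isClosed_compl _).2 fun w h1 h2 h3 => ?_
    obtain ⟨w', rfl⟩ : w ∈ Set.range (f.fiberι (f x)) := by rw [Scheme.Hom.range_fiberι]; exact h3
    obtain ⟨ζ, -, hζx, hζw⟩ := hW w' (hWW'.le h1) trivial
    have hfζ : f (f.fiberι (f x) ζ) = f x := by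
      have : f.fiberι (f x) ζ ∈ Set.range (f.fiberι (f x)) := ⟨ζ, rfl⟩
      rw [Scheme.Hom.range_fiberι] at this
      exact this
    have hζ' : f.fiberι (f x) ζ ⤳ x := by
      have := hζx.map (f.fiberι (f x)).continuous
      rwa [Scheme.Hom.fiberι_asFiber] at this
    have hηw : η ⤳ f.fiberι (f x) w' := (hall _ hζ' hfζ).trans (hζw.map (f.fiberι (f x)).continuous)
    have := rd_lt f hηw (fun h => h2 (h ▸ hηC)) (hfη.trans h3.symm)
    omega
  obtain ⟨O, hO, hxO, -, hOb⟩ := exists_open_dim_le f hW' hC.isClosed_compl hxW' hxC n hdim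
  obtain ⟨V, hxV, hV⟩ := exists_nhd_fibreDimAt f x
  refine ⟨O ∩ V, fun z hz η' h' he' hm' => ?_, hO.inter V.isOpen, hxO, hxV⟩
  by_contra hη'
  have h1 : rd f η' ≤ n :=
    (dim_inter_le_iff f _ hO hC.isClosed_compl _).1 (hOb (f η')) η' (h'.mem_open hO hz.1) hη' rfl
  obtain ⟨ζ, hζz, hfζ, hζm, -, hdz⟩ := exists_eta f z
  rw [eta_unique f hζz hfζ hζm h' he' hm'] at hdz
  have h2 : rd f η' = rd f η := by
    have := hdz.symm.trans ((hV z hz.2).trans hd)
    exact_mod_cast this
  omega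

/-- Clopen subsets of a fibrewise dense open extend. -/
theorem exists_clopen_preimage {P : Scheme.{u}} (j : P ⟶ X) [IsOpenImmersion j]
    (hj : ∀ η, IsFibMax f η → η ∈ Set.range j) {C : Set P} (hC : IsClopen C) :
    ∃ G : Set X, IsClopen G ∧ j ⁻¹' G = C := by
  have hC' : IsOpen (j '' C) := j.isOpenEmbedding.isOpenMap _ hC.2
  have hC'' : IsOpen (j '' Cᶜ) := j.isOpenEmbedding.isOpenMap _ hC.compl.2
  have hcompl : (spread f (j '' C))ᶜ = spread f (j '' Cᶜ) := by
    ext x
    obtain ⟨η, hηx, hfη, hηm, -, -⟩ := exists_eta f x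
    rw [Set.mem_compl_iff, mem_spread_iff f hηx hfη hηm, mem_spread_iff f hηx hfη hηm]
    obtain ⟨c, rfl⟩ := hj η hηm
    simp only [j.isOpenEmbedding.injective.mem_set_image, Set.mem_compl_iff]
  refine ⟨spread f (j '' C), ⟨⟨hcompl ▸ isOpen_spread f hC''⟩, isOpen_spread f hC'⟩, ?_⟩
  ext c
  constructor
  · intro hc
    by_contra hcn
    obtain ⟨η, hηx, hfη, hηm, -, -⟩ := exists_eta f (j c)
    obtain ⟨d, hd, rfl⟩ := (mem_spread_iff f hηx hfη hηm).1 hc
    exact (hC.compl.2.stableUnderGeneralization (j.isOpenEmbedding.isInducing.specializes_iff.1 hηx) hcn) hd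
  · exact fun hc η hη _ _ => hη.mem_open hC' ⟨c, hc, rfl⟩

/-- Restriction of finite étale covers to a fibrewise dense open is fully faithful. -/
theorem restrict_ff {P : Scheme.{u}} (j : P ⟶ X) [IsOpenImmersion j]
    (hj : ∀ η, IsFibMax f η → η ∈ Set.range j) :
    (FEt.restrict j).Full ∧ (FEt.restrict j).Faithful := by
  have hC : ∀ C : Set X, IsClopen C → C.Nonempty → (C ∩ Set.range j).Nonempty := fun C hC ⟨x, hx⟩ => by
    obtain ⟨η, hηx, -, hηm, -, -⟩ := exists_eta f x
    exact ⟨η, hηx.mem_open hC.2 hx, hj η hηm⟩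
  refine ⟨Pi1X.restrict_full j hC fun E C hEC => ?_, Pi1X.restrict_faithful j hC⟩
  haveI : Etale E.hom := E.prop.2
  let e : E.left ⟶ X := E.hom
  haveI : Etale e := E.prop.2
  refine exists_clopen_preimage (e ≫ f) (pullback.fst E.hom j) (fun η hη => ?_) hEC
  rw [Scheme.Pullback.range_fst]
  refine hj _ fun z hz hfz => ?_
  obtain ⟨z', hz', rfl⟩ := Flat.generalizingMap e hz
  exact congrArg e (hη z' hz' hfz)

end Groth.Agent.RelPure

end
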