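import Groth.Agent.PunctAlg.Connected
import Groth.Agent.Pi1Rig.GrFree

/-!
# Purity along an ideal with free graded pieces whose quotient has depth two
-/

set_option autoImplicit false
set_option linter.style.haveILetI false
set_option linter.unusedSectionVars false
set_option backward.isDefEq.respectTransparency false
set_option backward.isDefEq.respectTransparency.types false

universe u

open CategoryTheory CategoryTheory.Limits AlgebraicGeometry IsLocalRing TopologicalSpace Opposite

noncomputable section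

namespace Groth.Agent.RelPure

open Groth.Agent Groth.Agent.PunctAlg Groth.Agent.Pi1Rig Groth.Agent.Pi1Alg Groth.Agent.Pi1Ext Groth.Agent.Pi1Ext.RegPurity Groth.Agent.Pi1Ext.PuritySch

variable {A : Type u} [CommRing A] [IsNoetherianRing A] [IsLocalRing A] (J : Ideal A) [IsLocalRing (A ⧸ J)]

/-- Completion along `J` is fully faithful on coherent modules of the punctured spectrum. -/
theorem homToFormal_punctured_two [IsAdicComplete J A]
    (hgr : ∀ n : ℕ, Module.Free (A ⧸ J) (↥(J ^ n) ⧸ (J • (⊤ : Submodule A ↥(J ^ n)))))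
    (hd : (2 : ℕ∞) ≤ LocCoh.depth (A ⧸ J) (A ⧸ J))
    {G : (FEt.puncturedSpec A : Scheme.{u}).Modules} (hG : Coh.IsCoh G) :
    Lef.HomToFormalBijective (idOn (FEt.puncturedSpec A) J) G := by
  revert G
  rw [puncturedSpec_eq_pU A]
  intro G hG
  have hJ : J ≠ ⊤ := Ideal.Quotient.nontrivial_iff.1 inferInstance
  have hv : ∀ i < 2, ParaRel.HVan (A := A) i (A ⧸ J) := fun i hi =>
    ParaRel.hvan_of_depth (n := 2) ((ParaRel.depth_quot J).symm ▸ hd) hi
  have hdA : (2 : ℕ∞) ≤ LocCoh.depth A A := by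
    have hne : IsLocalRing.maximalIdeal A • (⊤ : Submodule A (A ⧸ J)) ≠ ⊤ := fun h => by
      haveI : Nontrivial (A ⧸ J) := Ideal.Quotient.nontrivial_iff.2 hJ
      exact Submodule.top_ne_ideal_smul_of_le_jacobson_annihilator (IsLocalRing.maximalIdeal_le_jacobson _) h.symm
    have hd' : (2 : ℕ∞) ≤ LocCoh.depth A (A ⧸ J) := (ParaRel.depth_quot J).symm ▸ hd
    obtain ⟨rs, hreg, hmem, hlen⟩ := Alg6.exists_length_ge_of_le_idealDepth hne (n := 2) hd'
    have hA := ParaRel.isWeaklyRegular_of_pow hJ rs hmem fun n => ParaRel.isWeaklyRegular_pow hgr rs hreg (n + 1)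
    show (2 : ℕ∞) ≤ LocCoh.idealDepth _ _
    unfold LocCoh.idealDepth
    split_ifs
    · exact le_top
    · exact le_iSup₂_of_le rs ⟨hA, hmem⟩ (by exact_mod_cast hlen)
  refine homToFormal_coh (IsLocalRing.maximalIdeal A) J ?_
    (fun n => ParaRel.hvan_pow hgr (hv 0 (by omega)) (n + 1))
    (fun n => ParaRel.hvan_pow hgr (hv 1 (by omega)) (n + 1)) hG
  have h1 : ParaRel.HVan (A := A) 1 A := ParaRel.hvan_of_depth (n := 2) hdA (by omega)
  exact @Equiv.subsingleton _ _ ((localCohomology (IsLocalRing.maximalIdeal A) 1).mapIso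
    (Submodule.quotEquivOfEqBot (⊥ : Ideal A) rfl).toModuleIso).toLinearEquiv.toEquiv h1

/-- Purity from an ideal with free graded pieces and depth two on the quotient. -/
theorem purity_of_grFree_two (hJ : J ≠ ⊤) (hd : (2 : ℕ∞) ≤ LocCoh.depth (A ⧸ J) (A ⧸ J))
    (hgr : GrFree J) (h0 : FEt.PurityHolds (A ⧸ J)) : FEt.PurityHolds A := by
  have hle : J ≤ maximalIdeal A := IsLocalRing.le_maximalIdeal hJ
  have hfg : J.FG := IsNoetherian.noetherian J
  let A' := AdicCompletion J A
  haveI : IsNoetherianRing A' := FormalFib6.isNoetherianRing_adicCompletion A J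
  haveI := LinTop7.isLocalRing_adicCompletion J hfg hle
  have hm : (maximalIdeal A).map (algebraMap A A') = maximalIdeal A' :=
    IsLocalRing.eq_maximalIdeal (AdicCompletion.isMaximal_map_of_le J _ hle hfg)
  haveI : IsLocalHom (algebraMap A A') := by
    refine ((IsLocalRing.local_hom_TFAE (algebraMap A A')).out 0 2).2 ?_
    exact hm.le
  haveI : Module.FaithfullyFlat A A' := Module.FaithfullyFlat.of_flat_of_isLocalHom
  let J' := J.map (algebraMap A A')
  haveI : IsAdicComplete J' A' := AdicCompletion.isAdicComplete_self J hfg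
  have hsur : ∀ (k : ℕ) (b : A'), ∃ a : A, b - algebraMap A A' a ∈ (J ^ k).map (algebraMap A A') := fun k b => by
    obtain ⟨a, ha⟩ := Submodule.Quotient.mk_surjective _ (AdicCompletion.eval J A k b)
    refine ⟨a, ?_⟩
    have h : b - algebraMap A A' a ∈ (J ^ k • ⊤ : Submodule A A') := by
      rw [AdicCompletion.pow_smul_top_eq_ker_eval (M := A) hfg, LinearMap.mem_ker, map_sub, sub_eq_zero, ← ha]
      rfl
    rwa [Ideal.smul_top_eq_map, Submodule.restrictScalars_mem] at h
  have h1 : ∀ b : A', ∃ a : A, b - algebraMap A A' a ∈ J' := fun b => by simpa using hsur 1 b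
  let π : A ⧸ J →+* A' ⧸ J' := Ideal.quotientMap J' (algebraMap A A') Ideal.le_comap_map
  have hπ : Function.Bijective π := by
    refine ⟨Ideal.quotientMap_injective' (Ideal.comap_map_eq_self_of_faithfullyFlat J).le, fun b => ?_⟩
    obtain ⟨b, rfl⟩ := Ideal.Quotient.mk_surjective b
    obtain ⟨a, ha⟩ := h1 b
    exact ⟨Ideal.Quotient.mk J a, ((Ideal.Quotient.mk_eq_mk_iff_sub_mem _ _).2 ha).symm⟩
  let e := RingEquiv.ofBijective π hπ
  haveI : IsLocalRing (A' ⧸ J') := e.isLocalRing
  have hd' : (2 : ℕ∞) ≤ LocCoh.depth (A' ⧸ J') (A' ⧸ J') :=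
    hd.trans_eq (Alg6.depth_eq_of_semilinear e.toRingHom e.surjective e.toAddEquiv fun r x => map_mul e r x)
  have hJ' : J' ≠ ⊤ := fun h => (maximalIdeal.isMaximal A').ne_top
    (top_le_iff.1 (h.symm.le.trans ((Ideal.map_mono hle).trans hm.le)))
  haveI : IsNoetherianRing (CommRingCat.of A') := ‹IsNoetherianRing A'›
  haveI : IsLocallyNoetherian (FEt.puncturedSpec A' : Scheme.{u}) := inferInstance
  have hff := LefLib.restrict_fullyFaithful (𝓙 := PunctAlg.idOn (FEt.puncturedSpec A') J') fun D hD =>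
    homToFormal_punctured_two J' (grFree_map J h1 hgr) hd' (CurveDeg.isCoh_of_isFinLocFree hD)
  have hA' : FEt.PurityHolds A' := purityHolds_of_ff J' hff (purityHolds_of_ringEquiv e h0)
  obtain ⟨w, hw⟩ := exists_punctured_baseChange (A := A) (A' := A') hm
  refine ⟨fun V => ?_⟩
  obtain ⟨Y', ⟨e'⟩⟩ := hA'.mem_essImage ((FEt.restrict w.inv).obj ((FEt.restrict (pullback.fst _ _)).obj V))
  obtain ⟨Y, hY⟩ := exists_extend_of_baseChange hm
    (fun k b => by
      obtain ⟨a, ha⟩ := hsur k b
      exact ⟨a, Ideal.map_mono (Ideal.pow_right_mono hle k) ha⟩) V ⟨Y',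
    ⟨(restrictComp w.hom _ _ hw Y').symm ≪≫ (FEt.restrict w.hom).mapIso e' ≪≫
      restrictComp w.hom w.inv _ w.hom_inv_id _ ≪≫ restrictId _⟩⟩
  exact ⟨Y, hY⟩

/-- A flat local algebra is pure if its closed fibre is pure of depth two. -/
theorem purityHolds_of_flat {R B : Type u} [CommRing R] [IsNoetherianRing R] [IsLocalRing R]
    [CommRing B] [IsNoetherianRing B] [IsLocalRing B] [Algebra R B] [Module.Flat R B]
    [IsLocalHom (algebraMap R B)] [IsLocalRing (B ⧸ (maximalIdeal R).map (algebraMap R B))]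
    (hd : (2 : ℕ∞) ≤ LocCoh.depth (B ⧸ (maximalIdeal R).map (algebraMap R B)) (B ⧸ (maximalIdeal R).map (algebraMap R B)))
    (h0 : FEt.PurityHolds (B ⧸ (maximalIdeal R).map (algebraMap R B))) : FEt.PurityHolds B := by
  refine purity_of_grFree_two _ (fun h => (maximalIdeal.isMaximal B).ne_top (top_le_iff.1 (h ▸ ?_))) hd
    (grFree_flat (maximalIdeal R) fun n => ?_) h0
  · exact Ideal.map_le_iff_le_comap.2 fun x hx hu =>
      ((IsLocalRing.mem_maximalIdeal x).1 hx) (isUnit_of_map_unit (algebraMap R B) x hu)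
  · letI := Ideal.Quotient.field (maximalIdeal R)
    exact Module.Free.of_divisionRing _ _

end Groth.Agent.RelPure

end
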