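import Groth.Agent.RelPure.Good
import Groth.Agent.S12073
import Groth.Agent.LimSm.Core
import Groth.Agent.MorLib.BaseChangeLim
import Groth.Agent.ConsPropLib.NoethApprox
import Groth.Agent.ConsPropLib.Approx
import Groth.Agent.Pi1Ext.Spread

/-!
# Extension of covers of a quasi-compact open with complement of codimension two, any affine base
-/

set_option autoImplicit false
set_option linter.style.haveILetI false
set_option backward.isDefEq.respectTransparency false
set_option backward.isDefEq.respectTransparency.types false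

universe u

open CategoryTheory CategoryTheory.Limits AlgebraicGeometry

noncomputable section

namespace Groth.Agent.RelPure

open Groth.Agent Groth.Agent.MorLib Groth.Agent.ConsPropLib Groth.Agent.Pi1Ext.Spread

theorem exists_extend_qc {R : CommRingCat.{u}} {W : Scheme.{u}} [IsAffine W] (q : W ⟶ Spec R) [Smooth q]
    (U : W.Opens) (hUc : IsCompact (U : Set W)) (hU : Codim2 q U) (E : FEt.Cat (U : Scheme.{u})) :
    ∃ Y : FEt.Cat W, Nonempty ((FEt.restrict U.ι).obj Y ≅ E) := by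
  let D := NoethApprox.diagram R
  let c : Cone D := NoethApprox.cone R
  have hc : IsLimit c := NoethApprox.isLimit R
  haveI : ∀ {i j} (f : i ⟶ j), IsAffineHom (D.map f) := fun f => NoethApprox.isAffineHom_map _ f
  haveI : ∀ i, IsAffine (D.obj i) := fun i => NoethApprox.isAffine_obj _ i
  haveI : ∀ i, IsNoetherian (D.obj i) := fun i => NoethApprox.isNoetherian_obj _ i
  let qc' : W ⟶ c.pt := q
  haveI : Smooth qc' := ‹Smooth q›
  haveI : IsAffineHom qc' := inferInstanceAs (IsAffineHom q)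
  obtain ⟨m, X₁, fm, gm, hm⟩ := hasModel hc qc'
  haveI := hm.qc
  haveI := hm.qs
  haveI := hm.lfp
  obtain ⟨a, φa, ha⟩ := Desc.descend D c hc m (P := @Smooth) (Q := @LocallyOfFinitePresentation)
    LimSm.core_smooth fm hm.lfp (Desc.of_two @Smooth hm.sq (IsPullback.of_hasPullback _ _) ‹Smooth qc'›)
  have hM := hm.pushed φa
  let fi := pullback.snd fm (D.map φa)
  haveI : Smooth fi := ha
  haveI : QuasiCompact fi := hM.qc
  haveI : QuasiSeparated fi := hM.qs
  let B := BC.diag D fi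
  haveI : ∀ {j k : Over a} (f : j ⟶ k), IsAffineHom (B.map f) := fun f => BC.isAffineHom_map D fi f
  haveI : CompactSpace ↥(pullback fm (D.map φa)) := QuasiCompact.compactSpace_of_compactSpace fi
  haveI : QuasiSeparatedSpace ↥(pullback fm (D.map φa)) := quasiSeparatedSpace_of_quasiSeparated fi
  haveI : ∀ j, CompactSpace (B.obj j) := fun j => BC.compactSpace_obj D fi j
  haveI : ∀ j, QuasiSeparatedSpace (B.obj j) := fun j => BC.quasiSeparatedSpace_obj D fi j
  let C := BC.cone D fi hM.sq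
  have hC : IsLimit C := BC.isLimitCone D fi hM.sq hc
  obtain ⟨j, V, hVc, hV⟩ := exists_preimage_eq B C hC U hUc
  subst hV
  let O := opensDiagram B j V
  haveI : ∀ (k l : Over j) (f : k ⟶ l), IsAffineHom (O.map f) := fun k l f => inferInstance
  haveI : ∀ k, CompactSpace (O.obj k) := fun k =>
    isCompact_iff_compactSpace.1 ((B.map k.hom).isCompact_preimage hVc)
  haveI : ∀ k, QuasiSeparatedSpace (O.obj k) := fun k => by
    haveI : QuasiSeparatedSpace (B.obj k.left) := inferInstance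
    exact quasiSeparatedSpace_of_quasiSeparated (B.map k.hom ⁻¹ᵁ V).ι
  obtain ⟨hes, -⟩ := S12073.result O (opensCone B C j V) (isLimitOpensCone B C hC j V)
  obtain ⟨k, Ek, ⟨e⟩⟩ := hes E
  let Z := B.obj k.left
  let p : W ⟶ Z := C.π.app k.left
  let fk : Z ⟶ D.obj k.left.left := pullback.snd fi (D.map k.left.hom)
  haveI : Smooth fk := inferInstanceAs (Smooth (pullback.snd fi (D.map k.left.hom)))
  haveI : QuasiCompact fk := inferInstanceAs (QuasiCompact (pullback.snd fi (D.map k.left.hom)))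
  have hsq : IsPullback p q fk (c.π.app k.left.left) := BC.isPullback_proj D fi hM.sq k.left
  let Uk : Z.Opens := B.map k.hom ⁻¹ᵁ V
  have hpU : p ⁻¹ᵁ Uk = C.π.app j ⁻¹ᵁ V := by
    show C.π.app k.left ⁻¹ᵁ B.map k.hom ⁻¹ᵁ V = _
    rw [← Scheme.Hom.comp_preimage, C.w]
  let G : Z.Opens := ⟨good fk Uk, isOpen_good fk Uk.isOpen⟩
  have hpG : ∀ w, p w ∈ G := fun w => mem_good_of_baseChange fk hsq
    (by
    show Codim2 q ((p ⁻¹ᵁ Uk : W.Opens) : Set W)
    rw [hpU]
    exact hU) w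
  haveI : CompactSpace Z := inferInstanceAs (CompactSpace (B.obj k.left))
  haveI : IsLocallyNoetherian Z := LocallyOfFiniteType.isLocallyNoetherian fk
  haveI : IsNoetherian Z := ⟨⟩
  haveI : CompactSpace (G : Scheme.{u}) :=
    isCompact_iff_compactSpace.1 (TopologicalSpace.NoetherianSpace.isCompact _)
  haveI : IsNoetherian (G : Scheme.{u}) := ⟨⟩
  have hG : Codim2 (G.ι ≫ fk) (G.ι ⁻¹ᵁ Uk : (G : Scheme.{u}).Opens) := codim2_of_good fk G fun _ h => h
  haveI := isEquivalence_noetherian (G.ι ≫ fk) (G.ι ⁻¹ᵁ Uk) hG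
  let r : ((G.ι ⁻¹ᵁ Uk : (G : Scheme.{u}).Opens) : Scheme.{u}) ⟶ (Uk : Scheme.{u}) := G.ι.resLE Uk _ le_rfl
  let Y := (FEt.restrict (G.ι ⁻¹ᵁ Uk).ι).objPreimage ((FEt.restrict r).obj Ek)
  let eY := (FEt.restrict (G.ι ⁻¹ᵁ Uk).ι).objObjPreimageIso ((FEt.restrict r).obj Ek)
  let l : W ⟶ (G : Scheme.{u}) := IsOpenImmersion.lift G.ι p (by
    rintro _ ⟨w, rfl⟩; rw [Scheme.Opens.range_ι]; exact hpG w)
  have hl : l ≫ G.ι = p := IsOpenImmersion.lift_fac _ _ _
  have hle : C.π.app j ⁻¹ᵁ V ≤ l ⁻¹ᵁ G.ι ⁻¹ᵁ Uk := by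
    rw [← Scheme.Hom.comp_preimage, hl, hpU]
  let l' := l.resLE (G.ι ⁻¹ᵁ Uk) (C.π.app j ⁻¹ᵁ V) hle
  have hl' : (opensCone B C j V).π.app k = l' ≫ r := by
    rw [← cancel_mono Uk.ι]
    show (C.π.app k.left).resLE Uk _ _ ≫ Uk.ι = _
    simp only [l', r, Scheme.Hom.resLE_comp_ι, Category.assoc, Scheme.Hom.resLE_comp_ι_assoc]
    rw [hl]
  exact ⟨(FEt.restrict l).obj Y, ⟨restrictSquare (C.π.app j ⁻¹ᵁ V).ι l l' (G.ι ⁻¹ᵁ Uk).ι
    (Scheme.Hom.resLE_comp_ι _ _).symm Y ≪≫ (FEt.restrict l').mapIso eY ≪≫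
    (restrictComp l' r _ hl' Ek).symm ≪≫ e⟩⟩

end Groth.Agent.RelPure

end
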