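import Groth.Agent.RelPure.Dense
import Groth.Agent.Pi1Ext.Spread
import Groth.Agent.Pi1PS.SmoothScheme
import Groth.Agent.S0247
import Groth.Agent.RelPure.Stalk
import Groth.Agent.FlatLoc6.Rk

/-!
# Extension of a cover: pure points plus given extensions at the minimal points of the complement
-/

set_option autoImplicit false
set_option linter.style.haveILetI false
set_option backward.isDefEq.respectTransparency false
set_option backward.isDefEq.respectTransparency.types false

universe u

open CategoryTheory CategoryTheory.Limits AlgebraicGeometry TopologicalSpace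

noncomputable section

namespace Groth.Agent.RelPure

open Groth.Agent Groth.Agent.Pi1Ext.Spread

/-- The local ring of a smooth scheme over a regular local ring is regular. -/
theorem stalk_regular {X S : Scheme.{u}} (f : X ⟶ S) [Smooth f] [IsLocallyNoetherian S] (x : X)
    [IsRegularLocalRing (S.presheaf.stalk (f x))] : IsRegularLocalRing (X.presheaf.stalk x) := by
  haveI : IsLocallyNoetherian X := LocallyOfFiniteType.isLocallyNoetherian f
  haveI hsm : Smooth (f.fiberToSpecResidueField (f x)) := MorphismProperty.pullback_snd _ _ ‹_›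
  haveI : IsRegularLocalRing (CInt.fiberStalk f x) :=
    @GrpSchLib.isRegularLocalRing_stalk_of_smooth (S.residueField (f x)) _ (f.fiber (f x))
      (f.fiberToSpecResidueField (f x)) hsm (f.asFiber x)
  obtain ⟨e⟩ := Triage.CMMor.exists_equiv_fibre_stalk f x
  letI : Algebra (S.presheaf.stalk (f x)) (X.presheaf.stalk x) := (f.stalkMap x).hom.toAlgebra
  haveI : Module.Flat (S.presheaf.stalk (f x)) (X.presheaf.stalk x) := Flat.stalkMap f x
  haveI : IsLocalHom (algebraMap (S.presheaf.stalk (f x)) (X.presheaf.stalk x)) :=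
    inferInstanceAs (IsLocalHom (f.stalkMap x).hom)
  exact FlatLoc6.isRegularLocalRing_of_flat_fibre (A := S.presheaf.stalk (f x))
    (IsRegularLocalRing.of_ringEquiv e.symm)

/-- The cover `V` of `U` extends to the local scheme at `x`. -/
def ExtendsAt {X : Scheme.{u}} (U : X.Opens) (V : FEt.Cat (U : Scheme.{u})) (x : X) : Prop :=
  ∃ Ex : FEt.Cat (Spec (X.presheaf.stalk x)), Nonempty
    ((FEt.restrict (pullback.snd U.ι (X.fromSpecStalk x))).obj Ex ≅
      (FEt.restrict (pullback.fst U.ι (X.fromSpecStalk x))).obj V)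

theorem range_snd_stalk {X : Scheme.{u}} (U : X.Opens) (x : X) :
    Set.range (pullback.snd U.ι (X.fromSpecStalk x)) = (X.fromSpecStalk x) ⁻¹' (U : Set X) := by
  rw [Scheme.Pullback.range_snd, Scheme.Opens.range_ι]

/-- A cover extends across pure points and across minimal points where it extends locally. -/
theorem exists_extend_pure {X : Scheme.{u}} [IsNoetherian X] (P : X → Prop)
    (hP : ∀ x, P x → FEt.PurityHolds (X.presheaf.stalk x)) (U₀ : X.Opens) (V₀ : FEt.Cat (U₀ : Scheme.{u}))
    (hloc : ∀ x, x ∉ U₀ → ¬ P x → (∀ y, y ⤳ x → y ≠ x → y ∈ U₀) ∧ ExtendsAt U₀ V₀ x) :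
    ∃ Y : FEt.Cat X, Nonempty ((FEt.restrict U₀.ι).obj Y ≅ V₀) := by
  suffices H : ∀ U : X.Opens, ∀ hle : U₀ ≤ U, ∀ V : FEt.Cat (U : Scheme.{u}),
      Nonempty ((FEt.restrict (X.homOfLE hle)).obj V ≅ V₀) →
      ∃ Y : FEt.Cat X, Nonempty ((FEt.restrict U₀.ι).obj Y ≅ V₀) by
    refine H U₀ le_rfl V₀ ⟨?_⟩
    exact (MorphismProperty.Over.pullbackCongr (X.homOfLE_rfl U₀)).app V₀ ≪≫ restrictId V₀
  intro U
  induction U using WellFoundedGT.induction with
  | _ U ih =>
    rintro hle V ⟨e₀⟩
    by_cases hT : U = ⊤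
    · subst hT
      haveI : IsIso (⊤ : X.Opens).ι := by rw [← Scheme.topIso_hom]; infer_instance
      refine ⟨(FEt.restrict (inv (⊤ : X.Opens).ι)).obj V, ⟨?_⟩⟩
      exact (restrictComp U₀.ι (inv (⊤ : X.Opens).ι) (X.homOfLE hle)
        (by rw [← cancel_mono (⊤ : X.Opens).ι, X.homOfLE_ι, Category.assoc, IsIso.inv_hom_id, Category.comp_id]) V).symm ≪≫ e₀
    · obtain ⟨x, hx, hmin⟩ := exists_min_point U hT
      obtain ⟨Ex, ⟨ex⟩⟩ : ExtendsAt U V x := by
        by_cases hPx : P x
        · exact exists_local_extension U V x (hP x hPx) hx hmin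
        · obtain ⟨hmin₀, Ex, ⟨ex⟩⟩ := hloc x (fun h => hx (hle h)) hPx
          have hr : Set.range (pullback.snd U.ι (X.fromSpecStalk x)) =
              Set.range (pullback.snd U₀.ι (X.fromSpecStalk x)) := by
            rw [range_snd_stalk, range_snd_stalk]
            ext q
            refine ⟨fun hq => hmin₀ _ ?_ fun h => hx (h ▸ hq), fun hq => hle hq⟩
            exact (Scheme.range_fromSpecStalk (X := X)).subset ⟨q, rfl⟩
          let κ := IsOpenImmersion.isoOfRangeEq (pullback.snd U.ι (X.fromSpecStalk x))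
            (pullback.snd U₀.ι (X.fromSpecStalk x)) hr
          have h1 : κ.hom ≫ pullback.snd U₀.ι (X.fromSpecStalk x) = pullback.snd U.ι (X.fromSpecStalk x) :=
            IsOpenImmersion.isoOfRangeEq_hom_fac _ _ hr
          have h2 : (κ.hom ≫ pullback.fst U₀.ι (X.fromSpecStalk x)) ≫ X.homOfLE hle =
              pullback.fst U.ι (X.fromSpecStalk x) := by
            rw [← cancel_mono U.ι, Category.assoc, Category.assoc, X.homOfLE_ι, pullback.condition,
              pullback.condition, reassoc_of% h1]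
          exact ⟨Ex, ⟨restrictComp κ.hom _ _ h1.symm Ex ≪≫ (FEt.restrict κ.hom).mapIso ex ≪≫
            (restrictComp κ.hom _ _ rfl V₀).symm ≪≫ (FEt.restrict _).mapIso e₀.symm ≪≫
            (restrictComp _ (X.homOfLE hle) _ h2.symm V).symm⟩⟩
      obtain ⟨U', hle', V', hxU', ⟨eV⟩⟩ := exists_extend_nbhd U V x Ex ex
      refine ih U' (lt_of_le_of_ne hle' fun he => hx (he ▸ hxU')) (hle.trans hle') V' ⟨?_⟩
      exact restrictComp (X.homOfLE hle) (X.homOfLE hle') _ (X.homOfLE_homOfLE _ _).symm V' ≪≫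
        (FEt.restrict (X.homOfLE hle)).mapIso eV ≪≫ e₀

theorem eq_of_stalk_dim_le_one {X : Scheme.{u}} {x y : X} (hx : ringKrullDim (X.presheaf.stalk x) ≤ 1)
    (hy : y ⤳ x) (hne : y ≠ x) {z : X} (hz : z ⤳ y) : z = y := by
  by_contra h
  obtain ⟨q, rfl⟩ := (Scheme.range_fromSpecStalk (X := X) (x := x)).ge hy
  obtain ⟨r, rfl⟩ := (Scheme.range_fromSpecStalk (X := X) (x := x)).ge (hz.trans hy)
  have hemb := (X.fromSpecStalk x).isEmbedding
  have key : ∀ a b : PrimeSpectrum (X.presheaf.stalk x), a < b → b < IsLocalRing.closedPoint _ → False :=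
    fun a b hab hb => by
      have h2 := Order.LTSeries.length_le_krullDim (((RelSeries.singleton _ a).snoc b hab).snoc
        (IsLocalRing.closedPoint (X.presheaf.stalk x)) (by simpa using hb))
      simp at h2
      have h3 : ringKrullDim (X.presheaf.stalk x) ≤ 1 := hx
      exact absurd (h2.trans h3) (by decide)
  refine key r q (lt_of_le_of_ne ((PrimeSpectrum.le_iff_specializes _ _).2 (hemb.isInducing.specializes_iff.1 hz))
    fun e => h (congrArg _ e)) (lt_of_le_of_ne ?_ fun e => hne ?_)
  · exact (PrimeSpectrum.le_iff_specializes _ _).2 (IsLocalRing.specializes_closedPoint _)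
  · rw [e]
    exact Scheme.fromSpecStalk_closedPoint

/-- Over a base whose local rings are regular or of depth two, a cover of a fibrewise dense open extends as
soon as it extends at the points with one-dimensional local ring. -/
theorem exists_extend_of_regular_or_depth {X S : Scheme.{u}} (f : X ⟶ S) [Smooth f] [IsLocallyNoetherian S]
    [IsNoetherian X]
    (hS : ∀ s : S, (2 : ℕ∞) ≤ LocCoh.depth (S.presheaf.stalk s) (S.presheaf.stalk s) ∨
      IsRegularLocalRing (S.presheaf.stalk s))
    (U : X.Opens) (hU : ∀ η, IsFibMax f η → η ∈ U) (V : FEt.Cat (U : Scheme.{u}))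
    (h1 : ∀ x, x ∉ U → ringKrullDim (X.presheaf.stalk x) ≤ 1 → ExtendsAt U V x) :
    ∃ Y : FEt.Cat X, Nonempty ((FEt.restrict U.ι).obj Y ≅ V) := by
  have h4 : ∀ s : S, f.base ⁻¹' {s} ⊆ closure ((U : Set X) ∩ f.base ⁻¹' {s}) := fun s x hx => by
    obtain ⟨η, hηx, hfη, hηm, -, -⟩ := exists_eta f x
    exact closure_mono (Set.singleton_subset_iff.2 (show η ∈ (U : Set X) ∩ f.base ⁻¹' {s} from ⟨hU η hηm, hfη.trans hx⟩))
      (specializes_iff_mem_closure.1 hηx)
  let P : X → Prop := fun x => x ∉ U ∧ ((2 : ℕ∞) ≤ LocCoh.depth (S.presheaf.stalk (f x)) (S.presheaf.stalk (f x)) ∨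
    (2 : WithBot ℕ∞) ≤ ringKrullDim (X.presheaf.stalk x))
  refine exists_extend_pure P (fun x hx => ?_) U V fun x hx hPx => ?_
  · letI : Algebra (S.presheaf.stalk (f x)) (X.presheaf.stalk x) := (f.stalkMap x).hom.toAlgebra
    haveI : IsLocalHom (algebraMap (S.presheaf.stalk (f x)) (X.presheaf.stalk x)) :=
      inferInstanceAs <| IsLocalHom (f.stalkMap x).hom
    haveI : Algebra.EssFiniteType (S.presheaf.stalk (f x)) (X.presheaf.stalk x) := by
      rw [← RingHom.essFiniteType_algebraMap, RingHom.algebraMap_toAlgebra]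
      exact LocallyOfFiniteType.stalkMap f x
    haveI : Algebra.FormallySmooth (S.presheaf.stalk (f x)) (X.presheaf.stalk x) :=
      Scheme.Hom.mem_smoothLocus.1 (f.smoothLocus_eq_top.ge (Set.mem_univ x))
    by_cases hd : (2 : ℕ∞) ≤ LocCoh.depth (S.presheaf.stalk (f x)) (S.presheaf.stalk (f x))
    · exact Pi1PS.purityHolds_of_essSmooth hd _ (Pi1PS.map_maximalIdeal_ne_of_not_mem f U h4 x hx.1)
    · haveI := (hS (f x)).resolve_left hd
      haveI : IsRegularLocalRing (X.presheaf.stalk x) := stalk_regular f x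
      exact S0247.result _ (hx.2.resolve_left hd)
  · have hdim : ringKrullDim (X.presheaf.stalk x) ≤ 1 := by
      have h2 : ¬ (2 : WithBot ℕ∞) ≤ ringKrullDim (X.presheaf.stalk x) := fun h => hPx ⟨hx, Or.inr h⟩
      revert h2
      cases ringKrullDim (X.presheaf.stalk x) with
      | bot => exact fun _ => bot_le
      | coe a =>
        intro h2
        have h3 : a < 2 := lt_of_not_ge fun h => h2 (WithBot.coe_le_coe.2 h)
        exact WithBot.coe_le_coe.2 ((ENat.lt_add_one_iff (by simp)).1 (by rwa [one_add_one_eq_two]))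
    refine ⟨fun y hy hne => hU y fun z hz _ => eq_of_stalk_dim_le_one hdim hy hne hz, h1 x hx hdim⟩

end Groth.Agent.RelPure

end
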