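import Groth.Agent.RelPure.Ext
import Groth.Agent.RelPure.DescExt
import Groth.Agent.RelPure.Norm
import Groth.Agent.EtDescX.Integral
import Groth.Agent.EtDescX.SubtrDescQC
import Groth.Agent.DescLib.SepSurj
import Groth.Agent.S0084

/-!
# Extension of a cover over a Noetherian base from the fibres at the maximal points
-/

set_option autoImplicit false
attribute [-instance] CategoryTheory.catToReflQuiver
set_option linter.style.haveILetI false
set_option backward.isDefEq.respectTransparency false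
set_option backward.isDefEq.respectTransparency.types false

universe u

open CategoryTheory CategoryTheory.Limits AlgebraicGeometry

noncomputable section

namespace Groth.Agent.RelPure

open Groth.Agent Groth.Agent.Pi1Ext.Spread

variable {X S S' : Scheme.{u}} (f : X ⟶ S) (U : X.Opens) (V : FEt.Cat (U : Scheme.{u}))

/-- The cover extends after the base change along `g`. -/
def ExtendsAlong (g : S' ⟶ S) : Prop :=
  ∃ Y' : FEt.Cat (pullback f g), Nonempty ((FEt.restrict (pullback.fst f g ⁻¹ᵁ U).ι).obj Y' ≅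
    (FEt.restrict (pullback.fst f g ∣_ U)).obj V)

variable {f U V}

/-- An extension of a pullback pulls back. -/
theorem exists_restrict_iso {W Z : Scheme.{u}} {p : Z ⟶ X} {E : FEt.Cat Z} {O : W.Opens} (m : W ⟶ Z)
    (m' : (O : Scheme.{u}) ⟶ (p ⁻¹ᵁ U : Z.Opens)) (hm : m' ≫ (p ⁻¹ᵁ U).ι = O.ι ≫ m)
    (q : (O : Scheme.{u}) ⟶ (U : Scheme.{u})) (hq : q ≫ U.ι = O.ι ≫ m ≫ p)
    (i : (FEt.restrict (p ⁻¹ᵁ U).ι).obj E ≅ (FEt.restrict (p ∣_ U)).obj V) :
    Nonempty ((FEt.restrict O.ι).obj ((FEt.restrict m).obj E) ≅ (FEt.restrict q).obj V) := by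
  refine ⟨restrictSquare O.ι m m' (p ⁻¹ᵁ U).ι hm.symm E ≪≫ (FEt.restrict m').mapIso i ≪≫
    (restrictComp m' (p ∣_ U) q ?_ V).symm⟩
  rw [← cancel_mono U.ι, hq, Category.assoc, morphismRestrict_ι, reassoc_of% hm]

variable [Smooth f]

/-- Descent of an extension along an integral surjection of the base. -/
theorem exists_extend_of_integral (hU : ∀ η, IsFibMax f η → η ∈ U) (g : S' ⟶ S) [IsFinite g] [Surjective g]
    (h : ExtendsAlong f U V g) : ∃ Y : FEt.Cat X, Nonempty ((FEt.restrict U.ι).obj Y ≅ V) := by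
  obtain ⟨Y', hY'⟩ := h
  refine exists_extend_descent f U g hU V (EtDescX.univSubmersive_of_universallyClosed _) (fun D hf he => ?_) Y' hY'
  haveI := hf
  haveI := he
  obtain ⟨Y, hq, hs, hYe, ⟨i⟩⟩ := EtDescX.exists_effective (p := pullback.fst f g) D
  refine ⟨Y, ?_, hYe, ⟨i⟩⟩
  let q := pullback.fst f g
  let w : pullback q Y.hom ⟶ D.obj.left := i.hom.hom.left
  haveI : IsIso w := ⟨i.inv.hom.left,
    congrArg (fun z : (Desc.toDD q).obj Y ⟶ (Desc.toDD q).obj Y => z.hom.left) i.hom_inv_id,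
    congrArg (fun z : D ⟶ D => z.hom.left) i.inv_hom_id⟩
  have hc : pullback.snd q Y.hom ≫ Y.hom = w ≫ D.obj.hom ≫ q := by
    rw [← pullback.condition, ← Category.assoc]
    exact congrArg (· ≫ q) (Over.w i.hom.hom).symm
  haveI : UniversallyClosed (pullback.snd q Y.hom ≫ Y.hom) := by rw [hc]; infer_instance
  haveI : UniversallyClosed Y.hom := UniversallyClosed.of_comp_surjective (pullback.snd q Y.hom) Y.hom
  haveI : IsProper Y.hom := ⟨⟩
  exact IsFinite.of_isProper_of_locallyQuasiFinite Y.hom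

omit [Smooth f] in
/-- Extensions after a base change pull back along a morphism over the scheme. -/
theorem ExtendsAlong.of_map {X₁ S₁ S₂ : Scheme.{u}} {g : S' ⟶ S} (h : ExtendsAlong f U V g)
    {f₁ : X₁ ⟶ S₁} (p₀ : X₁ ⟶ X) {g' : S₂ ⟶ S₁} (m : pullback f₁ g' ⟶ pullback f g)
    (hm : m ≫ pullback.fst f g = pullback.fst f₁ g' ≫ p₀) :
    ExtendsAlong f₁ (p₀ ⁻¹ᵁ U) ((FEt.restrict (p₀ ∣_ U)).obj V) g' := by
  obtain ⟨E, ⟨i⟩⟩ := h
  let O := pullback.fst f₁ g' ⁻¹ᵁ p₀ ⁻¹ᵁ U
  let p := pullback.fst f g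
  let m' : (O : Scheme.{u}) ⟶ (p ⁻¹ᵁ U : Scheme.Opens _) := IsOpenImmersion.lift (p ⁻¹ᵁ U).ι (O.ι ≫ m) (by
    rintro _ ⟨z, rfl⟩
    rw [Scheme.Opens.range_ι]
    show ((O.ι ≫ m) ≫ p) z ∈ U
    rw [Category.assoc, hm]
    exact z.2)
  obtain ⟨e⟩ := exists_restrict_iso (V := V) m m' (IsOpenImmersion.lift_fac _ _ _)
    (pullback.fst f₁ g' ∣_ (p₀ ⁻¹ᵁ U) ≫ p₀ ∣_ U) (by
      rw [hm, Category.assoc, morphismRestrict_ι, morphismRestrict_ι_assoc]) i
  exact ⟨(FEt.restrict m).obj E, ⟨e ≪≫ restrictComp _ _ _ rfl V⟩⟩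

/-- Descent of an extension along a quasi-compact flat surjection of the base. -/
theorem exists_extend_of_flat (hU : ∀ η, IsFibMax f η → η ∈ U) (g : S' ⟶ S) [Flat g] [Surjective g] [QuasiCompact g]
    (h : ExtendsAlong f U V g) : ∃ Y : FEt.Cat X, Nonempty ((FEt.restrict U.ι).obj Y ≅ V) := by
  obtain ⟨Y', hY'⟩ := h
  refine exists_extend_descent f U g hU V (DescLib.univSubmersive_of_flat _) (fun D hf he => ?_) Y' hY'
  haveI := hf
  haveI := he
  obtain ⟨Y, hq, hs, hYe, ⟨i⟩⟩ :=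
    EtDescX.exists_effective_of_univSSubtrusive_qc (pullback.fst f g) (EtDescX.univSSubtrusive_of_flat _) D
  refine ⟨Y, ?_, hYe, ⟨i⟩⟩
  let q := pullback.fst f g
  let w : pullback q Y.hom ⟶ D.obj.left := i.hom.hom.left
  haveI : IsIso w := ⟨i.inv.hom.left,
    congrArg (fun z : (Desc.toDD q).obj Y ⟶ (Desc.toDD q).obj Y => z.hom.left) i.hom_inv_id,
    congrArg (fun z : D ⟶ D => z.hom.left) i.inv_hom_id⟩
  have hw : pullback.fst q Y.hom = w ≫ D.obj.hom := (Over.w i.hom.hom).symm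
  haveI := S0084.result.{u}
  refine MorphismProperty.of_pullback_fst_of_descendsAlong (P := @IsFinite)
    (Q := (@Surjective ⊓ @Flat ⊓ @QuasiCompact : MorphismProperty Scheme.{u})) (f := q) (g := Y.hom) ⟨⟨inferInstance, inferInstance⟩, inferInstance⟩ ?_
  rw [hw]
  infer_instance

/-- Extensions over a fibre descend along a field extension. -/
theorem ExtendsAlong.descend {X' : Scheme.{u}} {p : X' ⟶ X} {q : X' ⟶ S'} {g : S' ⟶ S} (sq : IsPullback p q f g)
    (hU : ∀ η, IsFibMax f η → η ∈ U) (s' : S')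
    (h : ExtendsAlong q (p ⁻¹ᵁ U) ((FEt.restrict (p ∣_ U)).obj V) (S'.fromSpecResidueField s')) :
    ExtendsAlong f U V (S.fromSpecResidueField (g s')) := by
  obtain ⟨E, ⟨i⟩⟩ := h
  let g₁ := S.fromSpecResidueField (g s')
  let ρ : Spec (S'.residueField s') ⟶ Spec (S.residueField (g s')) := Spec.map (g.residueFieldMap s')
  have hρ : ρ ≫ g₁ = S'.fromSpecResidueField s' ≫ g :=
    Scheme.Hom.SpecMap_residueFieldMap_fromSpecResidueField g s'
  haveI : Flat ρ := inferInstance
  haveI : Surjective ρ := ⟨fun z => ⟨default, Subsingleton.elim _ _⟩⟩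
  have h' : ExtendsAlong (pullback.snd f g₁) (pullback.fst f g₁ ⁻¹ᵁ U)
      ((FEt.restrict (pullback.fst f g₁ ∣_ U)).obj V) ρ := by
    have hw : ((pullback.fst (pullback.snd f g₁) ρ) ≫ pullback.fst f g₁) ≫ f =
        (pullback.snd (pullback.snd f g₁) ρ ≫ S'.fromSpecResidueField s') ≫ g := by
      rw [Category.assoc, Category.assoc, ← hρ, pullback.condition, pullback.condition_assoc]
    let m₀ := sq.lift _ _ hw
    let pf := pullback.fst q (S'.fromSpecResidueField s')
    refine ExtendsAlong.of_map (f := f) (g := S'.fromSpecResidueField s' ≫ g) ⟨?_, ?_⟩ (pullback.fst f g₁)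
      (pullback.lift (pullback.fst (pullback.snd f g₁) ρ ≫ pullback.fst f g₁) (pullback.snd _ _)
        (by rw [hw, Category.assoc])) (pullback.lift_fst _ _ _)
    · exact (FEt.restrict (pullback.lift (sq.lift (pullback.fst f _) (pullback.snd f _ ≫ S'.fromSpecResidueField s')
        (by rw [pullback.condition, Category.assoc])) (pullback.snd f _) (IsPullback.lift_snd _ _ _ _))).obj E
    · let fu := pullback.fst f (S'.fromSpecResidueField s' ≫ g)
      let mm : pullback f (S'.fromSpecResidueField s' ≫ g) ⟶ pullback q (S'.fromSpecResidueField s') :=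
        pullback.lift (sq.lift fu (pullback.snd f _ ≫ S'.fromSpecResidueField s')
          (by rw [pullback.condition, Category.assoc])) (pullback.snd f _) (IsPullback.lift_snd _ _ _ _)
      have hmm : mm ≫ pf ≫ p = fu := by
        simp only [mm, pf]
        rw [pullback.lift_fst_assoc, IsPullback.lift_fst]
      let mm' : ((fu ⁻¹ᵁ U : Scheme.Opens _) : Scheme.{u}) ⟶ (pf ⁻¹ᵁ p ⁻¹ᵁ U : Scheme.Opens _) :=
        IsOpenImmersion.lift (pf ⁻¹ᵁ p ⁻¹ᵁ U).ι ((fu ⁻¹ᵁ U).ι ≫ mm) (by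
          rintro _ ⟨z, rfl⟩
          rw [Scheme.Opens.range_ι]
          show ((fu ⁻¹ᵁ U).ι ≫ mm ≫ pf ≫ p) z ∈ U
          rw [hmm]
          exact z.2)
      exact exists_restrict_iso (U := p ⁻¹ᵁ U) mm mm' (IsOpenImmersion.lift_fac _ _ _) (mm' ≫ pf ∣_ (p ⁻¹ᵁ U))
        (by rw [Category.assoc, morphismRestrict_ι, ← Category.assoc, IsOpenImmersion.lift_fac, Category.assoc]) i
        |>.map fun e => e ≪≫ (restrictComp (mm' ≫ pf ∣_ (p ⁻¹ᵁ U)) (p ∣_ U) (fu ∣_ U) (by
          rw [← cancel_mono U.ι, Category.assoc, Category.assoc, morphismRestrict_ι, morphismRestrict_ι,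
            morphismRestrict_ι_assoc]
          rw [← Category.assoc mm', IsOpenImmersion.lift_fac, Category.assoc, hmm]) V).symm
  haveI : Smooth (pullback.snd f g₁) := MorphismProperty.pullback_snd _ _ ‹_›
  have hU₁ : ∀ η, IsFibMax (pullback.snd f g₁) η → η ∈ pullback.fst f g₁ ⁻¹ᵁ U := fun η hη =>
    hU _ (isFibMax_of_isPullback (IsPullback.of_hasPullback f g₁) hη)
  exact exists_extend_of_flat hU₁ ρ h'

/-- Over a Nagata affine base a cover of a fibrewise dense open extends if it extends over the fibres at the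
maximal points. -/
theorem exists_extend_nagata {X : Scheme.{u}} [IsNoetherian X] {R : CommRingCat.{u}} (hR : CAlg.IsNagata R)
    (f : X ⟶ Spec R) [Smooth f] (U : X.Opens) (hU : ∀ η, IsFibMax f η → η ∈ U) (V : FEt.Cat (U : Scheme.{u}))
    (hs : ∀ r : Spec R, (∀ r', r' ⤳ r → r' = r) → ExtendsAlong f U V ((Spec R).fromSpecResidueField r)) :
    ∃ Y : FEt.Cat X, Nonempty ((FEt.restrict U.ι).obj Y ≅ V) := by
  haveI := hR.1
  obtain ⟨S', g, hgf, hgs, hS'n, hreg, hmax⟩ := exists_normal_cover R hR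
  refine exists_extend_of_integral hU g ?_
  let q := pullback.fst f g
  let q' := pullback.snd f g
  haveI : CompactSpace ↥(pullback f g) := QuasiCompact.compactSpace_of_compactSpace q
  haveI : IsLocallyNoetherian (pullback f g) := LocallyOfFiniteType.isLocallyNoetherian q'
  haveI : IsNoetherian (pullback f g) := ⟨⟩
  have hU' : ∀ η, IsFibMax q' η → η ∈ q ⁻¹ᵁ U := fun η hη =>
    hU _ (isFibMax_of_isPullback (IsPullback.of_hasPullback f g) hη)
  refine exists_extend_of_regular_or_depth q' hreg (q ⁻¹ᵁ U) hU' ((FEt.restrict (q ∣_ U)).obj V) fun x hx hd => ?_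
  obtain ⟨η, hηx, hfη, hηm, -, -⟩ := exists_eta q' x
  have hne : η ≠ x := fun h => hx (h ▸ hU' η hηm)
  have hsmax : ∀ s', s' ⤳ q' x → s' = q' x := fun s' hs' => by
    obtain ⟨z, hz, hzs⟩ := Flat.generalizingMap q' (show s' ⤳ q' η by rw [hfη]; exact hs')
    rw [← hzs, eq_of_stalk_dim_le_one hd hηx hne hz, hfη]
  obtain ⟨hfield, hr⟩ := hmax (q' x) hsmax
  obtain ⟨E, ⟨i⟩⟩ := hs (g (q' x)) hr
  let Ox := (pullback f g).presheaf.stalk x
  haveI : IsIso (S'.residue (q' x)) := by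
    refine (ConcreteCategory.isIso_iff_bijective _).2 ⟨?_, S'.residue_surjective (q' x)⟩
    letI := hfield.toField
    exact RingHom.injective (S'.residue (q' x)).hom
  let l : Spec Ox ⟶ Spec ((Spec R).residueField (g (q' x))) :=
    Spec.map (q'.stalkMap x) ≫ inv (Spec.map (S'.residue (q' x))) ≫ Spec.map (g.residueFieldMap (q' x))
  have hl : l ≫ (Spec R).fromSpecResidueField (g (q' x)) = ((pullback f g).fromSpecStalk x ≫ q) ≫ f := by
    simp only [l, Category.assoc]
    rw [Scheme.Hom.SpecMap_residueFieldMap_fromSpecResidueField, Scheme.fromSpecResidueField,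
      Category.assoc, IsIso.inv_hom_id_assoc, Scheme.SpecMap_stalkMap_fromSpecStalk_assoc]
    simp only [q, q', pullback.condition]
  let p := pullback.fst f ((Spec R).fromSpecResidueField (g (q' x)))
  let m : Spec Ox ⟶ pullback f ((Spec R).fromSpecResidueField (g (q' x))) :=
    pullback.lift ((pullback f g).fromSpecStalk x ≫ q) l hl.symm
  have hmp : m ≫ p = (pullback f g).fromSpecStalk x ≫ q := pullback.lift_fst _ _ _
  let W := (q ⁻¹ᵁ U)
  let a := pullback.fst W.ι ((pullback f g).fromSpecStalk x)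
  let b := pullback.snd W.ι ((pullback f g).fromSpecStalk x)
  let m' : pullback W.ι ((pullback f g).fromSpecStalk x) ⟶ (p ⁻¹ᵁ U : Scheme.Opens _) :=
    IsOpenImmersion.lift (p ⁻¹ᵁ U).ι (b ≫ m) (by
      rintro _ ⟨z, rfl⟩
      rw [Scheme.Opens.range_ι]
      show ((b ≫ m) ≫ p) z ∈ U
      rw [Category.assoc, hmp, ← pullback.condition_assoc]
      exact (a z).2)
  have hm' : m' ≫ (p ⁻¹ᵁ U).ι = b ≫ m := IsOpenImmersion.lift_fac _ _ _
  refine ⟨(FEt.restrict m).obj E, ⟨restrictSquare b m m' (p ⁻¹ᵁ U).ι hm'.symm E ≪≫ (FEt.restrict m').mapIso i ≪≫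
    (restrictComp m' (p ∣_ U) (a ≫ q ∣_ U) ?_ V).symm ≪≫ restrictComp a (q ∣_ U) _ rfl V⟩⟩
  rw [← cancel_mono U.ι, Category.assoc, morphismRestrict_ι, Category.assoc, morphismRestrict_ι,
    reassoc_of% hm', hmp, pullback.condition_assoc]

end Groth.Agent.RelPure

end
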