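import Groth.Agent.RelPure.ExtNoeth
import Groth.Agent.RelPure.Descent

/-!
# A cover of a fibrewise dense open extends if it extends over the fibres at the maximal points of the base
-/

set_option autoImplicit false
attribute [-instance] CategoryTheory.catToReflQuiver
set_option linter.style.haveILetI false
set_option backward.isDefEq.respectTransparency false
set_option backward.isDefEq.respectTransparency.types false

universe u

open CategoryTheory CategoryTheory.Limits AlgebraicGeometry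

noncomputable section

namespace Groth.Agent.RelPure

open Groth.Agent Groth.Agent.MorLib Groth.Agent.ConsPropLib Groth.Agent.Pi1Ext.Spread

/-- Extensions pass to smaller opens and isomorphic covers. -/
theorem ExtendsAlong.congr {X S S' : Scheme.{u}} {f : X ⟶ S} {g : S' ⟶ S} {U U₁ : X.Opens}
    {V : FEt.Cat (U : Scheme.{u})} {V₁ : FEt.Cat (U₁ : Scheme.{u})} (h : ExtendsAlong f U V g) (hle : U₁ ≤ U)
    (e : (FEt.restrict (X.homOfLE hle)).obj V ≅ V₁) : ExtendsAlong f U₁ V₁ g := by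
  obtain ⟨E, ⟨i⟩⟩ := h
  let p := pullback.fst f g
  let ρ : ((p ⁻¹ᵁ U₁ : Scheme.Opens _) : Scheme.{u}) ⟶ (p ⁻¹ᵁ U : Scheme.Opens _) :=
    (pullback f g).homOfLE (p.preimage_mono hle)
  refine ⟨E, ⟨restrictComp ρ (p ⁻¹ᵁ U).ι _ ((pullback f g).homOfLE_ι _).symm E ≪≫ (FEt.restrict ρ).mapIso i ≪≫
    (restrictComp ρ (p ∣_ U) (ρ ≫ p ∣_ U) rfl V).symm ≪≫
    restrictComp (p ∣_ U₁) (X.homOfLE hle) (ρ ≫ p ∣_ U) ?_ V ≪≫ (FEt.restrict (p ∣_ U₁)).mapIso e⟩⟩
  rw [← cancel_mono U.ι, Category.assoc, Category.assoc, morphismRestrict_ι, X.homOfLE_ι, morphismRestrict_ι]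
  exact (pullback f g).homOfLE_ι_assoc _ _

theorem isPullback_of_mono {P G X Y Z : Scheme.{u}} {fst : P ⟶ G} {ι : G ⟶ X} [Mono ι] {snd : P ⟶ Y}
    {f : X ⟶ Z} {g : Y ⟶ Z} {p : P ⟶ X} (hp : fst ≫ ι = p) (h : IsPullback p snd f g) :
    IsPullback fst snd (ι ≫ f) g := by
  subst hp
  refine IsPullback.of_isLimit' ⟨by rw [← Category.assoc, h.w]⟩ ?_
  refine PullbackCone.IsLimit.mk _ (fun c => h.lift (c.fst ≫ ι) c.snd (by rw [Category.assoc, c.condition]))
    (fun c => ?_) (fun c => h.lift_snd _ _ _) (fun c m h₁ h₂ => ?_)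
  · rw [← cancel_mono ι, Category.assoc]
    exact h.lift_fst _ _ _
  · refine h.hom_ext ?_ ?_
    · rw [h.lift_fst, ← Category.assoc, h₁]
    · rw [h.lift_snd, h₂]

/-- The image of a base change with fibrewise dense preimage lies in the spread. -/
theorem mem_spread_of_baseChange {X S X' S' : Scheme.{u}} {p : X' ⟶ X} {q : X' ⟶ S'} {f : X ⟶ S} {g : S' ⟶ S}
    [LocallyOfFiniteType f] [Smooth q] (h : IsPullback p q f g) {U : Set X}
    (hU : ∀ η, IsFibMax q η → p η ∈ U) (w : X') : p w ∈ spread f U := by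
  intro z hz hfz hzm
  have hfp : ∀ v, f (p v) = g (q v) := fun v => by
    show (p ≫ f) v = (q ≫ g) v
    rw [h.w]
  have h' : IsPullback (q.fiberι (q w) ≫ p) (q.fiberToSpecResidueField (q w)) f
      (S'.fromSpecResidueField (q w) ≫ g) :=
    (IsPullback.of_hasPullback q (S'.fromSpecResidueField (q w))).paste_horiz h
  obtain ⟨a, ha, hpa⟩ := FibDim.exists_generization_lift h'.flip (x' := q.asFiber w) (b := z)
    (by show z ⤳ p (q.fiberι (q w) (q.asFiber w)); rw [Scheme.Hom.fiberι_asFiber]; exact hz)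
    (by show f z = f (p (q.fiberι (q w) (q.asFiber w))); rw [Scheme.Hom.fiberι_asFiber]; exact hfz)
  obtain ⟨η, hηa, hqη, hηm, -, -⟩ := exists_eta q (q.fiberι (q w) a)
  have hpa' : p (q.fiberι (q w) a) = z := hpa
  have hpz : p η ⤳ z := hpa' ▸ hηa.map p.continuous
  have hfpz : f (p η) = f z := by rw [← hpa', hfp, hfp, hqη]
  rw [← hzm _ hpz hfpz]
  exact hU η hηm

/-- The image of a base change with fibrewise dense preimage lies in the spread, for an open set. -/
theorem mem_spread_of_baseChange' {X S X' S' : Scheme.{u}} {p : X' ⟶ X} {q : X' ⟶ S'} {f : X ⟶ S} {g : S' ⟶ S}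
    [LocallyOfFiniteType f] [Smooth q] (h : IsPullback p q f g) {U : X.Opens}
    (hU : ∀ η, IsFibMax q η → η ∈ p ⁻¹ᵁ U) (w : X') : p w ∈ spread f (U : Set X) :=
  mem_spread_of_baseChange h hU w

/-- Over an affine base a cover of a quasi-compact fibrewise dense open of an affine scheme extends if it
extends over the fibres at the maximal points of the base. -/
theorem exists_extend_affine {R : CommRingCat.{u}} {W : Scheme.{u}} [IsAffine W] (q : W ⟶ Spec R) [Smooth q]
    (U : W.Opens) (hUc : IsCompact (U : Set W)) (hU : ∀ η, IsFibMax q η → η ∈ U) (E : FEt.Cat (U : Scheme.{u}))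
    (hs : ∀ r : Spec R, (∀ r', r' ⤳ r → r' = r) → ExtendsAlong q U E ((Spec R).fromSpecResidueField r)) :
    ∃ Y : FEt.Cat W, Nonempty ((FEt.restrict U.ι).obj Y ≅ E) := by
  let D := NoethApprox.diagram R
  let c : Cone D := NoethApprox.cone R
  have hc : IsLimit c := NoethApprox.isLimit R
  haveI : ∀ {i j} (f : i ⟶ j), IsAffineHom (D.map f) := fun f => NoethApprox.isAffineHom_map _ f
  haveI : ∀ i, IsAffine (D.obj i) := fun i => NoethApprox.isAffine_obj _ i
  haveI : ∀ i, IsNoetherian (D.obj i) := fun i => NoethApprox.isNoetherian_obj _ i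
  let qc' : W ⟶ c.pt := q
  haveI : Smooth qc' := ‹Smooth q›
  haveI : IsAffineHom qc' := inferInstanceAs (IsAffineHom q)
  obtain ⟨m, X₁, fm, gm, hm⟩ := hasModel hc qc'
  haveI := hm.qc
  haveI := hm.qs
  haveI := hm.lfp
  obtain ⟨a, φa, ha⟩ := Desc.descend D c hc m (P := @Smooth) (Q := @LocallyOfFinitePresentation)
    LimSm.core_smooth fm hm.lfp (Desc.of_two @Smooth hm.sq (IsPullback.of_hasPullback _ _) ‹Smooth qc'›)
  have hM := hm.pushed φa
  let fi := pullback.snd fm (D.map φa)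
  haveI : Smooth fi := ha
  haveI : QuasiCompact fi := hM.qc
  haveI : QuasiSeparated fi := hM.qs
  let B := BC.diag D fi
  haveI : ∀ {j k : Over a} (f : j ⟶ k), IsAffineHom (B.map f) := fun f => BC.isAffineHom_map D fi f
  haveI : CompactSpace ↥(pullback fm (D.map φa)) := QuasiCompact.compactSpace_of_compactSpace fi
  haveI : QuasiSeparatedSpace ↥(pullback fm (D.map φa)) := quasiSeparatedSpace_of_quasiSeparated fi
  haveI : ∀ j, CompactSpace (B.obj j) := fun j => BC.compactSpace_obj D fi j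
  haveI : ∀ j, QuasiSeparatedSpace (B.obj j) := fun j => BC.quasiSeparatedSpace_obj D fi j
  let C := BC.cone D fi hM.sq
  have hC : IsLimit C := BC.isLimitCone D fi hM.sq hc
  obtain ⟨j, V, hVc, hV⟩ := exists_preimage_eq B C hC U hUc
  subst hV
  let O := opensDiagram B j V
  haveI : ∀ (k l : Over j) (f : k ⟶ l), IsAffineHom (O.map f) := fun k l f => inferInstance
  haveI : ∀ k, CompactSpace (O.obj k) := fun k =>
    isCompact_iff_compactSpace.1 ((B.map k.hom).isCompact_preimage hVc)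
  haveI : ∀ k, QuasiSeparatedSpace (O.obj k) := fun k => by
    haveI : QuasiSeparatedSpace (B.obj k.left) := inferInstance
    exact quasiSeparatedSpace_of_quasiSeparated (B.map k.hom ⁻¹ᵁ V).ι
  obtain ⟨hes, -⟩ := S12073.result O (opensCone B C j V) (isLimitOpensCone B C hC j V)
  obtain ⟨k, Ek, ⟨e⟩⟩ := hes E
  let Z := B.obj k.left
  let p : W ⟶ Z := C.π.app k.left
  let fk : Z ⟶ D.obj k.left.left := pullback.snd fi (D.map k.left.hom)
  haveI : Smooth fk := inferInstanceAs (Smooth (pullback.snd fi (D.map k.left.hom)))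
  haveI : QuasiCompact fk := inferInstanceAs (QuasiCompact (pullback.snd fi (D.map k.left.hom)))
  have hsq : IsPullback p q fk (c.π.app k.left.left) := BC.isPullback_proj D fi hM.sq k.left
  let Uk : Z.Opens := B.map k.hom ⁻¹ᵁ V
  have hpU : p ⁻¹ᵁ Uk = C.π.app j ⁻¹ᵁ V := by
    show C.π.app k.left ⁻¹ᵁ B.map k.hom ⁻¹ᵁ V = _
    rw [← Scheme.Hom.comp_preimage, C.w]
  let G : Z.Opens := ⟨spread fk Uk, isOpen_spread fk Uk.isOpen⟩
  haveI : LocallyOfFiniteType q := inferInstance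
  have hpG : ∀ w, p w ∈ G := fun w =>
    mem_spread_of_baseChange' hsq (fun η hη => by rw [hpU]; exact hU η hη) w
  haveI : CompactSpace Z := inferInstanceAs (CompactSpace (B.obj k.left))
  haveI : IsLocallyNoetherian Z := LocallyOfFiniteType.isLocallyNoetherian fk
  haveI : IsNoetherian Z := ⟨⟩
  haveI : CompactSpace (G : Scheme.{u}) :=
    isCompact_iff_compactSpace.1 (TopologicalSpace.NoetherianSpace.isCompact _)
  haveI : IsNoetherian (G : Scheme.{u}) := ⟨⟩
  let UG : (G : Scheme.{u}).Opens := G.ι ⁻¹ᵁ Uk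
  have hUG : ∀ η, IsFibMax (G.ι ≫ fk) η → η ∈ UG := fun η hη => by
    have hηG : (η.1 : Z) ∈ spread fk Uk := η.2
    refine hηG η.1 specializes_rfl rfl fun z hz hfz => ?_
    let z' : (G : Scheme.{u}) := ⟨z, hz.mem_open G.isOpen η.2⟩
    exact congrArg Subtype.val (hη z' (G.ι.isOpenEmbedding.isInducing.specializes_iff.1 hz) hfz)
  let r : (UG : Scheme.{u}) ⟶ (Uk : Scheme.{u}) := G.ι.resLE Uk _ le_rfl
  let EG : FEt.Cat (UG : Scheme.{u}) := (FEt.restrict r).obj Ek
  let l : W ⟶ (G : Scheme.{u}) := IsOpenImmersion.lift G.ι p (by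
    rintro _ ⟨w, rfl⟩; rw [Scheme.Opens.range_ι]; exact hpG w)
  have hl : l ≫ G.ι = p := IsOpenImmersion.lift_fac _ _ _
  have hle : C.π.app j ⁻¹ᵁ V ≤ l ⁻¹ᵁ G.ι ⁻¹ᵁ Uk := by
    rw [← Scheme.Hom.comp_preimage, hl, hpU]
  have hge : l ⁻¹ᵁ G.ι ⁻¹ᵁ Uk ≤ C.π.app j ⁻¹ᵁ V := by
    rw [← Scheme.Hom.comp_preimage, hl, hpU]
  let l' := l.resLE (G.ι ⁻¹ᵁ Uk) (C.π.app j ⁻¹ᵁ V) hle
  have hl' : (opensCone B C j V).π.app k = l' ≫ r := by
    rw [← cancel_mono Uk.ι]
    show (C.π.app k.left).resLE Uk _ _ ≫ Uk.ι = _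
    simp only [l', r, UG, Scheme.Hom.resLE_comp_ι, Category.assoc, Scheme.Hom.resLE_comp_ι_assoc]
    rw [hl]
  have sql : IsPullback l q (G.ι ≫ fk) (c.π.app k.left.left) := isPullback_of_mono hl hsq
  let Rk : CommRingCat.{u} := CommRingCat.of (Algebra.adjoin ℤ ((k.left.left.unop : Finset R) : Set R))
  haveI : Algebra.FiniteType ℤ Rk :=
    Algebra.FiniteType.adjoin_of_finite (Finset.finite_toSet _)
  let fG : (G : Scheme.{u}) ⟶ Spec Rk := G.ι ≫ fk
  haveI : Smooth fG := inferInstanceAs (Smooth (G.ι ≫ fk))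
  obtain ⟨Y, ⟨eY⟩⟩ := exists_extend_nagata (isNagata_of_finiteType_int Rk) fG UG hUG EG fun rk hrk => by
    let ιk : Rk →+* R := (Algebra.adjoin ℤ ((k.left.left.unop : Finset R) : Set R)).val.toRingHom
    have hmin : (rk : PrimeSpectrum Rk).asIdeal ∈ minimalPrimes Rk := by
      refine ⟨⟨(rk : PrimeSpectrum Rk).isPrime, bot_le⟩, fun J hJ hle' => ?_⟩
      exact (congrArg PrimeSpectrum.asIdeal (hrk (⟨J, hJ.1⟩ : PrimeSpectrum Rk)
        ((PrimeSpectrum.le_iff_specializes (⟨J, hJ.1⟩ : PrimeSpectrum Rk) rk).1 hle'))).ge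
    obtain ⟨P', hP', hP'k⟩ := Ideal.exists_minimalPrimes_comap_eq (I := ⊥) ιk (rk : PrimeSpectrum Rk).asIdeal (by
      rw [Ideal.comap_bot_of_injective ιk Subtype.val_injective]
      exact hmin)
    let r' : Spec R := (⟨P', hP'.1.1⟩ : PrimeSpectrum R)
    have hr'k : c.π.app k.left.left r' = rk := PrimeSpectrum.ext hP'k
    have hr'max : ∀ r'', r'' ⤳ r' → r'' = r' := fun r'' h => by
      have h1 := (PrimeSpectrum.le_iff_specializes (r'' : PrimeSpectrum R) r').2 h
      exact PrimeSpectrum.ext (le_antisymm h1 (hP'.2 ⟨(r'' : PrimeSpectrum R).isPrime, bot_le⟩ h1))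
    rw [← hr'k]
    refine ExtendsAlong.descend (f := fG) (V := EG) sql hUG r' ((hs r' hr'max).congr hge ?_)
    refine (FEt.restrict (W.homOfLE hge)).mapIso e.symm ≪≫ (restrictComp _ _ _ rfl Ek).symm ≪≫
      restrictComp (l ∣_ UG) r _ ?_ Ek
    rw [hl', ← cancel_mono Uk.ι]
    simp only [l', r, UG, Category.assoc, Scheme.Hom.resLE_comp_ι, Scheme.Hom.resLE_comp_ι_assoc,
      morphismRestrict_ι_assoc, W.homOfLE_ι_assoc]
  exact ⟨(FEt.restrict l).obj Y, ⟨restrictSquare (C.π.app j ⁻¹ᵁ V).ι l l' (G.ι ⁻¹ᵁ Uk).ι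
    (Scheme.Hom.resLE_comp_ι _ _).symm Y ≪≫ (FEt.restrict l').mapIso eY ≪≫
    (restrictComp l' r _ hl' Ek).symm ≪≫ e⟩⟩

end Groth.Agent.RelPure

end
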